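import Cfsg.Agent.Lib.Bender.Full.Cyclic.Setup

/-!
# The centralizer of a lonely element has no elementary pair modulo it

`C(z)` is lonely, so a term of the derived series of its odd core moves the base point and acts
commutatively on the orbit `O` of the base point.  When `⟨z⟩` is the Sylow subgroup of the pair in
`L`, an `s`-subgroup of `C_L(z)` acts semiregularly, modulo `⟨z⟩`, on the other points of `O`; so an
elementary pair would centralize the abelian group acting regularly on `O`.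
-/

set_option autoImplicit false
set_option linter.style.haveILetI false
set_option linter.unusedSectionVars false

namespace CfsgLib.Bender.Full

open Subgroup MulAction
open scoped commutatorElement
open CfsgLib.Coprime (IsSylowIn conjBy)
open CfsgLib.Invol (fixed_unique)

universe u

variable {G : Type u} [Group G] [Finite G] {H : Subgroup G}

/-- A lonely subgroup moving `a` by an involution has a normalized subgroup moving `a` and acting
commutatively on the orbit of `a`. -/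
theorem exists_abelian_orbit {L : Subgroup G} (hL : Lonely L) {a : G ⧸ H} {t u : G}
    (ht : orderOf t = 2) (htL : t ∈ L) (hta : t • a = a) (hu : orderOf u = 2) (huL : u ∈ L)
    (hua : u • a ≠ a) :
    ∃ N : Subgroup G, N ≤ L ∧ L ≤ normalizer (N : Set G) ∧ (∃ n ∈ N, n • a ≠ a) ∧
      ∀ x ∈ N, ∀ y ∈ N, ∀ z ∈ N, (x * y) • z • a = (y * x) • z • a := by
  classical
  set O := coreOf L with hO
  haveI : Group.IsSolvable O := Cfsg.Agent.S0205.result (odd_coreOf L)
  let N : ℕ → Subgroup G := fun k => (derivedSeries O k).map O.subtype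
  have hNn : ∀ k, L ≤ normalizer (N k : Set G) := fun k =>
    (le_normalizer_coreOf L).trans (CfsgLib.PGroup.normalizer_le_normalizer_map_char O _)
  have hex : ∃ k, ∀ g ∈ N k, g • a = a := by
    obtain ⟨k, hk⟩ := (Group.isSolvable_def O).1 inferInstance
    refine ⟨k, fun g hg => ?_⟩
    obtain ⟨g', hg', rfl⟩ := hg
    rw [hk] at hg'
    rw [mem_bot.1 hg', map_one, one_smul]
  obtain ⟨k, hk⟩ : ∃ k, Nat.find hex = k + 1 := by
    refine ⟨Nat.find hex - 1, ?_⟩
    have : Nat.find hex ≠ 0 := fun e => by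
      have h0 := Nat.find_spec hex
      rw [e] at h0
      have h1 := h0 (t * u) ⟨⟨t * u, mul_mem_coreOf hL htL huL ht hu⟩, mem_top _, rfl⟩
      rw [mul_smul] at h1
      exact hua (smul_left_cancel t (h1.trans hta.symm))
    omega
  obtain ⟨n, hn, hna⟩ : ∃ n ∈ N k, n • a ≠ a := by
    have := Nat.find_min hex (m := k) (by omega)
    push Not at this
    exact this
  have hfix : ∀ g ∈ N (k + 1), ∀ x ∈ N k, g • x • a = x • a := by
    intro g hg x hx
    have hxn : x ∈ normalizer (N (k + 1) : Set G) :=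
      (le_normalizer.trans (CfsgLib.PGroup.normalizer_le_normalizer_map_char O _))
        (map_subtype_le _ hx)
    have h1 := hk ▸ Nat.find_spec hex
    have h2 := h1 _ ((mem_normalizer_iff''.1 hxn g).1 hg)
    rwa [mul_smul, mul_smul, inv_smul_eq_iff] at h2
  refine ⟨N k, (map_subtype_le _).trans (coreOf_le L), hNn k, ⟨n, hn, hna⟩, ?_⟩
  intro x hx y hy z hz
  obtain ⟨x', hx', rfl⟩ := hx
  obtain ⟨y', hy', rfl⟩ := hy
  have hc : ((y' * x')⁻¹ * (x' * y') : O) ∈ derivedSeries O (k + 1) := by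
    rw [derivedSeries_succ, show (y' * x')⁻¹ * (x' * y') = ⁅x'⁻¹, y'⁻¹⁆ by
      rw [commutatorElement_def]; group]
    exact commutator_mem_commutator (inv_mem hx') (inv_mem hy')
  have h1 := hfix _ ⟨_, hc, rfl⟩ z hz
  simp only [map_mul, map_inv, coe_subtype] at h1 ⊢
  rw [mul_smul, inv_smul_eq_iff] at h1
  exact h1

namespace Cyc

variable {x : G ⧸ H} {L R : Subgroup G} {s : ℕ} {z t : G} (C : Cyc H x L R s z t)
include C

/-- An `s`-subgroup of `C_L(z)` fixing another point fixed by `z` lies in `⟨z⟩`, if that is the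
Sylow subgroup of the pair. -/
theorem mem_zpowers_of_fixed (hR : R = zpowers z) {S : Subgroup G} (hS : IsPGroup s S)
    (hSL : S ≤ L) (hzS : z ∈ S) {y : G ⧸ H} (hy : y ≠ base H)
    (hfix : ∀ g ∈ S, g • y = y) : S ≤ zpowers z := by
  haveI := C.fact
  obtain ⟨g, hgb, hgx⟩ := C.setting.toMCtx.toCore.transitive (a := base H) C.ne.symm hy.symm
  have h1 : g ∈ ((L ⊔ pairStab (base H) x : Subgroup G) : Set G) :=
    C.layer.sup ((stabilizer_base H).le hgb)
  rw [coe_mul_of_right_le_normalizer_left L _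
    ((pairStab_base_le H x).trans C.layer.norm)] at h1
  obtain ⟨l, hl, d, hd, rfl⟩ := h1
  have hlx : l • x = y := by rw [← hgx, mul_smul, mem_stabilizer_iff.1 hd.2]
  have hle : conjBy l⁻¹ S ≤ L ⊓ pairStab (base H) x := by
    intro k hk
    rw [CfsgLib.Coprime.mem_conjBy, inv_inv] at hk
    have hkL : k ∈ L := by
      have h2 := L.mul_mem (L.mul_mem (L.inv_mem hl) (hSL hk)) hl
      simpa [mul_assoc] using h2
    refine ⟨hkL, mem_stabilizer_iff.2 (smul_base.2 (C.layer.le hkL)), mem_stabilizer_iff.2 ?_⟩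
    have h2 := hfix _ hk
    rw [mul_smul, mul_smul, ← hlx, inv_smul_smul] at h2
    exact smul_left_cancel l h2
  have hcard : Nat.card S ≤ Nat.card (zpowers z) := by
    have h2 := isPGroup_card_le (hS.map (MulAut.conj l⁻¹).toMonoidHom) hle
    rw [CfsgLib.Coprime.card_conjBy] at h2
    rw [← hR, C.sylow.2]
    exact h2
  exact (eq_of_le_of_card_ge (zpowers_le.2 hzS) hcard).ge

/-- No elementary pair modulo `⟨z⟩` in an `s`-subgroup of `C_L(z)`. -/
theorem no_pair (hR : R = zpowers z) {S : Subgroup G} (hS : IsPGroup s S) (hSL : S ≤ L)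
    (hSz : ∀ g ∈ S, Commute g z) (hzS : z ∈ S) {c : G} (hc : c ∈ S) {y : G} (hy : y ∈ S)
    (hcs : c ^ s ∈ zpowers z) (hys : y ^ s ∈ zpowers z) (hcy : ⁅c, y⁆ ∈ zpowers z)
    (hcz : c ∉ zpowers z) : y ∈ zpowers z ⊔ zpowers c := by
  classical
  haveI := C.fact
  obtain ⟨u, hu, hux, huC⟩ := C.setting.exists_invol_centralizing
    (C.sylow.isPGroup.to_le (zpowers_le.2 C.z_mem)) (zpowers_le.2 C.z_memE.2.2 : x ∈ fixSet _ H)
    C.one_lt_fix
  have hub : u • base H ≠ base H := fun e => C.ne (fixed_unique C.setting.se hu hux e)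
  obtain ⟨N, hNC, hCN, ⟨n, hn, hnb⟩, hab⟩ := exists_abelian_orbit
    (lonely_of_not_nonlonely C.lonely) C.t_order (mem_centralizer_zpowers.2 C.t_comm) C.t_base hu
    huC hub
  set O : Set (G ⧸ H) := MulAction.orbit N (base H) with hO
  have hbO : base H ∈ O := mem_orbit_self _
  have hOF : ∀ w ∈ O, z • w = w := by
    rintro _ ⟨m, rfl⟩
    show z • (m : G) • base H = (m : G) • base H
    rw [← mul_smul, ← (mem_centralizer_zpowers.1 (hNC m.2)).eq, mul_smul,
      mem_stabilizer_iff.1 C.z_memE.2.1]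
  have hSN : S ≤ normalizer (N : Set G) := fun g hg => hCN (mem_centralizer_zpowers.2 (hSz g hg))
  have hSb : ∀ g ∈ S, g • base H = base H := fun g hg => smul_base.2 (C.layer.le (hSL hg))
  have hSO : ∀ g ∈ S, ∀ w ∈ O, g • w ∈ O := by
    rintro g hg _ ⟨m, rfl⟩
    refine ⟨⟨g * m * g⁻¹, (mem_normalizer_iff.1 (hSN hg) m).1 m.2⟩, ?_⟩
    show (g * m * g⁻¹) • base H = g • (m : G) • base H
    rw [mul_smul, mul_smul, hSb g⁻¹ (inv_mem hg)]
  -- semiregularity
  have hsemi : ∀ g ∈ S, ∀ w ∈ O, w ≠ base H → g • w = w → g ∈ zpowers z := by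
    intro g hg w hw hwb hgw
    refine C.mem_zpowers_of_fixed hR (hS.to_le (sup_le (zpowers_le.2 hzS) (zpowers_le.2 hg)))
      ((sup_le (zpowers_le.2 hzS) (zpowers_le.2 hg)).trans hSL) (mem_sup_left (mem_zpowers z)) hwb
      ?_ (mem_sup_right (mem_zpowers g))
    have h1 : zpowers z ⊔ zpowers g ≤ stabilizer G w :=
      sup_le (zpowers_le.2 (mem_stabilizer_iff.2 (hOF w hw))) (zpowers_le.2 (mem_stabilizer_iff.2 hgw))
    exact fun k hk => mem_stabilizer_iff.1 (h1 hk)
  -- the groups of permutations of `O`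
  let P0 : Subgroup G :=
    { carrier := {g | ∀ w, w ∈ O ↔ g • w ∈ O}
      one_mem' := fun w => by rw [one_smul]
      mul_mem' := fun {g k} hg hk w => by rw [mul_smul]; exact (hk w).trans (hg _)
      inv_mem' := fun {g} hg w => by rw [hg (g⁻¹ • w), smul_inv_smul] }
  have hNP : N ≤ P0 := fun m hm w => by
    constructor
    · rintro ⟨k, rfl⟩
      exact ⟨⟨m, hm⟩ * k, mul_smul m (k : G) (base H)⟩
    · rintro ⟨k, hk⟩
      refine ⟨⟨m, hm⟩⁻¹ * k, ?_⟩
      show (m⁻¹ * (k : G)) • base H = w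
      rw [mul_smul, inv_smul_eq_iff]
      exact hk
  have hSP : S ≤ P0 := fun g hg w => ⟨hSO g hg w, fun h => by
    simpa using hSO g⁻¹ (inv_mem hg) _ h⟩
  let ρ : P0 →* Equiv.Perm O :=
    { toFun := fun g =>
        { toFun := fun w => ⟨(g : G) • (w : G ⧸ H), (g.2 _).1 w.2⟩
          invFun := fun w => ⟨((g⁻¹ : P0) : G) • (w : G ⧸ H), ((g⁻¹ : P0).2 _).1 w.2⟩
          left_inv := fun w => Subtype.ext (inv_smul_smul (g : G) (w : G ⧸ H))
          right_inv := fun w => Subtype.ext (smul_inv_smul (g : G) (w : G ⧸ H)) }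
      map_one' := Equiv.ext fun w => Subtype.ext (one_smul G (w : G ⧸ H))
      map_mul' := fun g k => Equiv.ext fun w => Subtype.ext (mul_smul (g : G) (k : G) (w : G ⧸ H)) }
  have hρ : ∀ (g : P0) (w : O), ((ρ g w : O) : G ⧸ H) = (g : G) • (w : G ⧸ H) := fun g w => rfl
  have hρone : ∀ g : P0, (g : G) ∈ zpowers z → ρ g = 1 := by
    rintro g ⟨i, hi⟩
    refine Equiv.ext fun w => Subtype.ext ?_
    rw [hρ, ← hi]
    exact mem_stabilizer_iff.1 (zpow_mem (mem_stabilizer_iff.2 (hOF _ w.2)) i)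
  have hne : ∃ w ∈ O, w ≠ base H := ⟨n • base H, ⟨⟨n, hn⟩, rfl⟩, hnb⟩
  have hker : ∀ g : P0, (g : G) ∈ S → ρ g = 1 → (g : G) ∈ zpowers z := by
    intro g hg e
    obtain ⟨w, hw, hwb⟩ := hne
    exact hsemi g hg w hw hwb (congrArg (fun f : Equiv.Perm O => ((f ⟨w, hw⟩ : O) : G ⧸ H)) e)
  set X : Subgroup G := closure {c, y} with hX
  have hXS : X ≤ S := (closure_le _).2 (by
    rintro g (rfl | rfl)
    · exact hc
    · exact hy)
  set cP : P0 := ⟨c, hSP hc⟩
  set yP : P0 := ⟨y, hSP hy⟩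
  set A := (X.subgroupOf P0).map ρ with hA
  set K := (N.subgroupOf P0).map ρ with hK
  have hcA : ρ cP ∈ A := mem_map_of_mem ρ (mem_subgroupOf.2 (subset_closure (Or.inl rfl)))
  have hyA : ρ yP ∈ A := mem_map_of_mem ρ (mem_subgroupOf.2 (subset_closure (Or.inr rfl)))
  have hAgen : A = closure {ρ cP, ρ yP} := by
    rw [hA, show X.subgroupOf P0 = closure {cP, yP} from ?_, MonoidHom.map_closure,
      Set.image_pair]
    apply map_injective P0.subtype_injective
    rw [map_subgroupOf_eq_of_le (hXS.trans hSP), MonoidHom.map_closure, Set.image_pair]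
    rfl
  have hcomm : Commute (ρ cP) (ρ yP) := by
    have h1 : ρ ⁅cP, yP⁆ = 1 := hρone _ hcy
    rwa [map_commutatorElement, commutatorElement_eq_one_iff_mul_comm] at h1
  haveI : IsMulCommutative A := by
    rw [hAgen]
    exact Subgroup.isMulCommutative_closure (by
      rintro a (rfl | rfl) b (rfl | rfl)
      · rfl
      · exact hcomm.eq
      · exact hcomm.eq.symm
      · rfl)
  have hpow : ∀ g : P0, (g : G) ∈ X → ρ g ^ s = 1 := by
    intro g hg
    have h1 : ρ g ∈ A := mem_map_of_mem ρ (mem_subgroupOf.2 hg)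
    rw [hAgen] at h1
    revert h1
    generalize ρ g = k0
    intro h1
    induction h1 using closure_induction with
    | mem k hk =>
      rcases hk with rfl | rfl
      · rw [← map_pow]; exact hρone _ hcs
      · rw [← map_pow]; exact hρone _ hys
    | one => exact one_pow s
    | mul k k' hk hk' ihk ihk' =>
      have hkk : Commute k k' := congrArg Subtype.val
        (mul_comm' (⟨k, hAgen ▸ hk⟩ : A) ⟨k', hAgen ▸ hk'⟩)
      rw [hkk.mul_pow, ihk, ihk', one_mul]
    | inv k hk ihk => rw [inv_pow, ihk, inv_one]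
  have hc1 : ρ cP ≠ 1 := fun e => hcz (hker cP hc e)
  by_contra hout
  -- the pair is not cyclic
  have hncyc : ¬ IsCyclic A := by
    intro hcy'
    obtain ⟨⟨gA, hgA⟩, hgen⟩ := IsCyclic.exists_generator (α := A)
    have hgA' := hgA
    obtain ⟨g0, hg0, rfl⟩ := hgA'
    have hle : zpowers (ρ cP) ≤ A := zpowers_le.2 hcA
    have hcard : Nat.card A ≤ s := by
      rw [← orderOf_eq_card_of_forall_mem_zpowers hgen, ← orderOf_coe]
      exact Nat.le_of_dvd C.prime.pos (orderOf_dvd_of_pow_eq_one (hpow g0 hg0))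
    have heq : zpowers (ρ cP) = A := eq_of_le_of_card_ge hle (by
      rwa [Nat.card_zpowers, orderOf_eq_prime (hpow cP (subset_closure (Or.inl rfl))) hc1])
    obtain ⟨i, hi⟩ := (heq.symm ▸ hyA : ρ yP ∈ zpowers (ρ cP))
    replace hi : ρ cP ^ i = ρ yP := hi
    have h1 : ρ (yP * (cP ^ i)⁻¹) = 1 := by rw [map_mul, map_inv, map_zpow, hi, mul_inv_cancel]
    have h2 : y * (c ^ i)⁻¹ ∈ zpowers z := by
      have := hker (yP * (cP ^ i)⁻¹) (by simpa using mul_mem hy (inv_mem (zpow_mem hc i))) h1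
      simpa using this
    exact hout (by
      rw [show y = y * (c ^ i)⁻¹ * c ^ i by group]
      exact mul_mem (mem_sup_left h2) (mem_sup_right (zpow_mem (mem_zpowers c) i)))
  -- `K` is regular on `O`
  have hKfix : ∀ g : P0, (g : G) ∈ N → (g : G) • base H = base H → ρ g = 1 := by
    intro g hg hgb
    refine Equiv.ext fun w => Subtype.ext ?_
    obtain ⟨m, hm⟩ := w.2
    rw [hρ]
    show (g : G) • (w : G ⧸ H) = w
    rw [← hm]
    have h1 := hab g hg m m.2 1 N.one_mem
    rw [one_smul, mul_smul, mul_smul, hgb] at h1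
    exact h1
  have hKO : Nat.card K = O.ncard := by
    rw [← Nat.card_coe_set_eq]
    refine Nat.card_congr (Equiv.ofBijective (fun k : K => (k : Equiv.Perm O) ⟨base H, hbO⟩)
      ⟨?_, ?_⟩)
    · rintro ⟨_, g, hg, rfl⟩ ⟨_, k, hk, rfl⟩ e
      have h1 : ρ (g⁻¹ * k) = 1 := hKfix _ (by
        simpa using mul_mem (inv_mem (mem_subgroupOf.1 hg)) (mem_subgroupOf.1 hk)) (by
        have h2 : (g : G) • base H = (k : G) • base H := congrArg Subtype.val e
        rw [coe_mul, coe_inv, mul_smul, ← h2, inv_smul_smul])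
      rw [map_mul, map_inv, inv_mul_eq_one] at h1
      exact Subtype.ext h1
    · rintro ⟨_, m, rfl⟩
      exact ⟨⟨ρ ⟨m, hNP m.2⟩, mem_map_of_mem ρ (mem_subgroupOf.2 m.2)⟩, Subtype.ext rfl⟩
  have hmod : O.ncard ≡ 1 [MOD s] := by
    letI : MulAction (zpowers c) O :=
      { smul := fun g w => ⟨(g : G) • (w : G ⧸ H), hSO g (zpowers_le.2 hc g.2) w w.2⟩
        one_smul := fun w => Subtype.ext (one_smul G (w : G ⧸ H))
        mul_smul := fun g k w => Subtype.ext (mul_smul (g : G) (k : G) (w : G ⧸ H)) }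
    have h1 := (hS.to_le (zpowers_le.2 hc)).card_modEq_card_fixedPoints O
    rw [← Nat.card_coe_set_eq]
    suffices h2 : Nat.card (fixedPoints (zpowers c) O) = 1 by rwa [h2] at h1
    rw [Nat.card_eq_one_iff_unique]
    refine ⟨⟨fun a b => ?_⟩, ⟨⟨⟨base H, hbO⟩, fun g => Subtype.ext (hSb g (zpowers_le.2 hc g.2))⟩⟩⟩
    have key : ∀ w : fixedPoints (zpowers c) O, ((w : O) : G ⧸ H) = base H := fun w => by
      by_contra hwb
      exact hcz (hsemi c hc _ (w : O).2 hwb
        (congrArg Subtype.val (w.2 ⟨c, mem_zpowers c⟩)))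
    exact Subtype.ext (Subtype.ext ((key a).trans (key b).symm))
  have hcop : (Nat.card A).Coprime (Nat.card K) := by
    obtain ⟨j, hj⟩ := (IsPGroup.iff_card (p := s)).1 (show IsPGroup s A from fun a => by
      obtain ⟨g, hg, hga⟩ := a.2
      exact ⟨1, Subtype.ext (by rw [pow_one, coe_pow, ← hga, coe_one]; exact hpow g hg)⟩)
    rw [hj, hKO]
    refine Nat.Coprime.pow_left j (C.prime.coprime_iff_not_dvd.2 fun hd => ?_)
    have h1 : 1 ≡ 0 [MOD s] := hmod.symm.trans ((Nat.modEq_zero_iff_dvd).2 hd)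
    exact C.prime.not_dvd_one ((Nat.modEq_zero_iff_dvd).1 h1)
  have hAK : A ≤ normalizer (K : Set (Equiv.Perm O)) :=
    (map_mono (show X.subgroupOf P0 ≤ normalizer (N.subgroupOf P0 : Set P0) from fun g hg =>
      mem_normalizer_iff.2 fun m => by
        simp only [mem_subgroupOf, coe_mul, coe_inv]
        exact mem_normalizer_iff.1 (hSN (hXS (mem_subgroupOf.1 hg))) m)).trans
      (le_normalizer_map ρ)
  have hbot : K ≤ ⊥ := CfsgLib.Coprime.le_of_centralizers_le hncyc hAK hcop fun a ha ha1 => by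
    rintro k ⟨hk, hka⟩
    obtain ⟨g, hg, rfl⟩ := ha
    obtain ⟨m, hm, rfl⟩ := hk
    refine mem_bot.2 (hKfix m hm ?_)
    by_contra hmb
    refine ha1 (hρone g (hsemi g (hXS hg) _ ⟨⟨m, hm⟩, rfl⟩ hmb ?_))
    have h1 := congrArg (fun f : Equiv.Perm O => ((f ⟨base H, hbO⟩ : O) : G ⧸ H))
      (mem_centralizer_singleton_iff.1 hka)
    simp only [Equiv.Perm.mul_apply, hρ] at h1
    rw [hSb g (hXS hg)] at h1
    exact h1.symm
  have h1 : ρ ⟨n, hNP hn⟩ = 1 := mem_bot.1 (hbot (mem_map_of_mem ρ (mem_subgroupOf.2 hn)))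
  exact hnb (congrArg (fun f : Equiv.Perm O => ((f ⟨base H, hbO⟩ : O) : G ⧸ H)) h1)

end Cyc

end CfsgLib.Bender.Full
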