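import Cfsg.Agent.Lib.Bender.Full.Cyclic.PiSylow
import Cfsg.Agent.Lib.Bender.Full.Cyclic.Orbit

/-!
# A lonely element centralizing an element of order dividing `m`: the layer can be lowered

Transfer inside `C_L(z)` gives a normal subgroup of order prime to `p` containing all `s`-elements;
a Sylow `p`-subgroup normalizes one of its Sylow `s`-subgroups and, `p` being larger than `s`,
centralizes an element outside `⟨z⟩` unless `⟨z⟩` is Sylow in `L`.
-/

set_option autoImplicit false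
set_option linter.style.haveILetI false
set_option linter.unusedSectionVars false

namespace CfsgLib.Bender.Full

open Subgroup MulAction
open scoped commutatorElement
open CfsgLib.Coprime (IsSylowIn conjBy)
open CfsgLib.Bender.Transfer (twoGen Controlled mem_twoGen)

universe u

variable {G : Type u} [Group G] [Finite G] {H : Subgroup G}

/-- A prime divides the index of the derived group of a non-trivial solvable group. -/
theorem exists_sylow_not_le_commutator {K : Subgroup G} (hK : Group.IsSolvable K) (hne : K ≠ ⊥) :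
    ∃ (l : ℕ) (S : Subgroup G), l.Prime ∧ IsSylowIn l S K ∧ ¬ S ≤ ⁅K, K⁆ := by
  by_contra hall
  push Not at hall
  have hle : ⁅K, K⁆ ≤ K := commutator_le.2 fun a ha b hb => by
    rw [commutatorElement_def]
    exact K.mul_mem (K.mul_mem (K.mul_mem ha hb) (K.inv_mem ha)) (K.inv_mem hb)
  have heq : ⁅K, K⁆ = K := by
    refine eq_of_le_of_card_ge hle (Nat.le_of_dvd Nat.card_pos ?_)
    refine (Nat.dvd_iff_prime_pow_dvd_dvd _ _).2 fun q k hq hd => ?_
    haveI : Fact q.Prime := ⟨hq⟩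
    obtain ⟨S, hS, -⟩ := exists_sylowIn_ge (K := K) (P := ⊥) (IsPGroup.of_bot (p := q)) bot_le
    refine dvd_trans ?_ (card_dvd_of_le (hall q S hq hS))
    rw [hS.2]
    exact pow_dvd_pow q ((hq.pow_dvd_iff_le_factorization Nat.card_pos.ne').1 hd)
  obtain ⟨n, hn⟩ := (Group.isSolvable_def K).1 hK
  refine hne ?_
  have h2 : ∀ j, (derivedSeries K j).map K.subtype = K := by
    intro j
    induction j with
    | zero => rw [derivedSeries_zero, ← MonoidHom.range_eq_map, range_subtype]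
    | succ j ih => rw [derivedSeries_succ, map_commutator, ih, heq]
  rw [← h2 n, hn, Subgroup.map_bot]

namespace Cyc

variable {x : G ⧸ H} {L R : Subgroup G} {s : ℕ} {z t : G} (C : Cyc H x L R s z t)
include C

/-- Two-elements of the point stabilizer lie in `L`. -/
theorem two_mem {g : G} (hg : g • base H = base H) (h2 : ∃ i : ℕ, g ^ 2 ^ i = 1) : g ∈ L := by
  obtain ⟨i, hi⟩ := h2
  exact C.layer.two (mem_twoGen (smul_base.1 hg) ⟨i, hi⟩)

variable {K : Subgroup G} (hK : K ≤ L ⊓ pairStab (base H) x) (hKs : ¬ s ∣ Nat.card K)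
  (hKmem : ∀ g ∈ L ⊓ pairStab (base H) x, ¬ s ∣ orderOf g → g ∈ K)
  (hKR : L ⊓ pairStab (base H) x ≤ K ⊔ R) (hR : R = zpowers z)
include hK hKs hKmem hKR hR

/-- A prime of the part of `M` fixing `x` with a nonlonely Sylow subgroup outside the derived group
lowers `M`. -/
theorem lower_cent {M : Subgroup G} (hM : M ≤ L ⊓ centralizer (zpowers z : Set G))
    (hMn : L ⊓ centralizer (zpowers z : Set G) ≤ normalizer (M : Set G))
    (hMtwo : twoGen (L ⊓ centralizer (zpowers z : Set G)) ≤ M)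
    (hMs : ∀ g ∈ L ⊓ centralizer (zpowers z : Set G), IsPGroup s (zpowers g) → g ∈ M)
    {l : ℕ} [hl : Fact l.Prime] (hls : l ≠ s) {S : Subgroup G}
    (hS : IsSylowIn l S (M ⊓ K)) (hSne : ¬ S ≤ ⁅M ⊓ K, M ⊓ K⁆) (hSN : Nonlonely S) :
    ∃ M' : Subgroup G, M' ≤ M ∧ ¬ M ≤ M' ∧
      L ⊓ centralizer (zpowers z : Set G) ≤ normalizer (M' : Set G) ∧
      twoGen (L ⊓ centralizer (zpowers z : Set G)) ≤ M' ∧
      ∀ g ∈ L ⊓ centralizer (zpowers z : Set G), IsPGroup s (zpowers g) → g ∈ M' := by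
  haveI := C.fact
  set D := pairStab (base H) x with hD
  set CL := L ⊓ centralizer (zpowers z : Set G) with hCL
  have hCLz : ∀ g ∈ CL, Commute g z := fun g hg => mem_centralizer_zpowers.1 hg.2
  have hCLb : ∀ g ∈ CL, g • base H = base H := fun g hg => smul_base.2 (C.layer.le hg.1)
  have hzCL : z ∈ CL := ⟨C.z_memE.1, mem_centralizer_zpowers.2 (Commute.refl z)⟩
  have hzM : z ∈ M := hMs z hzCL (IsPGroup.of_card (n := 1) (by
    rw [Nat.card_zpowers, C.z_order, pow_one]))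
  have hSM : S ≤ M := hS.1.trans inf_le_left
  have hSD : S ≤ D := hS.1.trans (inf_le_right.trans (hK.trans inf_le_right))
  have hS1 : S ≠ ⊥ := fun e => hSne (e ▸ bot_le)
  -- the part of `M` in the pair
  have hsup : M ⊓ D ≤ (M ⊓ K) ⊔ zpowers z := by
    intro g hg
    have hgE : g ∈ L ⊓ D := ⟨(hM hg.1).1, hg.2⟩
    obtain ⟨k, hk, r, hr, rfl⟩ := CfsgLib.Coprime.mem_sup_exists
      (show zpowers z ≤ normalizer (K : Set G) from zpowers_le.2 (mem_normalizer_iff.2 fun k => by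
        constructor
        · intro hk
          refine hKmem _ ⟨L.mul_mem (L.mul_mem C.z_memE.1 (hK hk).1) (L.inv_mem C.z_memE.1),
            D.mul_mem (D.mul_mem C.z_memE.2 (hK hk).2) (D.inv_mem C.z_memE.2)⟩ fun hd => hKs ?_
          rw [show z * k * z⁻¹ = MulAut.conj z k from rfl, MulEquiv.orderOf_eq] at hd
          exact hd.trans (Subgroup.orderOf_dvd_natCard K hk)
        · intro hk
          have hkE : k ∈ L ⊓ D := by
            rw [show k = z⁻¹ * (z * k * z⁻¹) * z by group]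
            exact mul_mem (mul_mem (inv_mem C.z_memE) (hK hk)) C.z_memE
          refine hKmem _ hkE fun hd => hKs ?_
          rw [← MulEquiv.orderOf_eq (MulAut.conj z), MulAut.conj_apply] at hd
          exact hd.trans (Subgroup.orderOf_dvd_natCard K hk))) (hR ▸ hKR hgE)
    refine mul_mem (mem_sup_left ⟨?_, hk⟩) (mem_sup_right hr)
    have h1 : k * r * r⁻¹ ∈ M := M.mul_mem hg.1 (M.inv_mem (zpowers_le.2 hzM hr))
    rwa [mul_inv_cancel_right] at h1
  have hlE : ∀ g ∈ M ⊓ D, IsPGroup l (zpowers g) → g ∈ M ⊓ K := fun g hg hgl =>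
    ⟨hg.1, hKmem g ⟨(hM hg.1).1, hg.2⟩ fun hd => by
      obtain ⟨i, hi⟩ := hgl ⟨g, mem_zpowers g⟩
      have h5 : s ∣ l ^ i := hd.trans (orderOf_dvd_of_pow_eq_one (congrArg Subtype.val hi))
      exact hls ((Nat.prime_dvd_prime_iff_eq C.prime hl.out).1 (C.prime.dvd_of_dvd_pow h5)).symm⟩
  have hSsyl : IsSylowIn l S (M ⊓ D) := by
    obtain ⟨Q, hQ, hSQ⟩ := exists_sylowIn_ge (K := M ⊓ D) hS.isPGroup (le_inf hSM hSD)
    exact sylowIn_eq_of_le hS hQ.isPGroup
      (fun g hg => hlE g (hQ.1 hg) (hQ.isPGroup.to_le (zpowers_le.2 hg))) hSQ ▸ hQ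
  -- lifting
  have hlift : ∀ B : Subgroup G, B ≤ S → B ≠ ⊥ → ∀ y ∈ fixSet B H, z • y = y → y ≠ base H →
      ∃ q ∈ centralizer (B : Set G), q ∈ twoGen CL ∧ q • x = y := by
    intro B hBS hB1 y hy hzy hyb
    have hBD : B ≤ D := hBS.trans hSD
    have hBN : Nonlonely B := hSN.mono hBS
    have hb : base H ∈ fixSet B H := hBD.trans inf_le_left
    have hx : x ∈ fixSet B H := hBD.trans inf_le_right
    obtain ⟨P, hP⟩ := C.setting.exists_localData (hS.isPGroup.to_le hBS) hB1 hBN hb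
      (three_of_nonlonely C.setting.se hBD C.ne.symm hBN)
    obtain ⟨q, hq, hq2, hqb, hqx, hqz⟩ := hP.exists_lift C.setting hx C.ne
      (fun g hg h2 => C.two_mem hg h2) C.z_order
      (mem_centralizer_iff.2 fun g hg => (hCLz g (hM (hSM (hBS hg)))).eq) C.z_memE
      (hP.notMem_fixKer C.setting hb hx C.ne hBN C.lonely) (hR ▸ C.sylow) hy hzy hyb
    obtain ⟨i, hi⟩ := hq2
    exact ⟨q, hq, mem_twoGen ⟨C.two_mem hqb ⟨i, hi⟩, mem_centralizer_zpowers.2 hqz⟩ ⟨i, hi⟩, hqx⟩
  have hSsylM : IsSylowIn l S M := by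
    have hb : base H ∈ fixSet S H := hSD.trans inf_le_left
    have hx : x ∈ fixSet S H := hSD.trans inf_le_right
    obtain ⟨P, hP⟩ := C.setting.exists_localData hS.isPGroup hS1 hSN hb
      (three_of_nonlonely C.setting.se hSD C.ne.symm hSN)
    refine hP.sylow_of_lift C.setting hx C.ne (l := l) ?_ (fun g hg h2 => C.two_mem hg h2) C.z_order
      (mem_centralizer_iff.2 fun g hg => (hCLz g (hM (hSM hg))).eq) C.z_memE
      (hP.notMem_fixKer C.setting hb hx C.ne hSN C.lonely) (hR ▸ C.sylow)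
      (fun g hg => mem_stabilizer_iff.2 (hCLb g (hM hg))) (fun g hg => hCLz g (hM hg))
      (fun g hg hgz h2 => hMtwo ?_) hSsyl
    · rintro rfl
      refine hS1 (Subgroup.card_eq_one.1 (hS.isPGroup.card_eq_or_dvd.resolve_right fun hd => ?_))
      have := (odd_pairStab C.setting.se C.ne.symm).of_dvd_nat (card_dvd_of_le hSD)
      exact absurd (this.of_dvd_nat hd) (by decide)
    · obtain ⟨i, hi⟩ := h2
      exact mem_twoGen ⟨C.two_mem hg ⟨i, hi⟩, mem_centralizer_zpowers.2 hgz⟩ ⟨i, hi⟩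
  have hl2 : l ≠ 2 := by
    rintro rfl
    refine hS1 (Subgroup.card_eq_one.1 (hS.isPGroup.card_eq_or_dvd.resolve_right fun hd => ?_))
    have := (odd_pairStab C.setting.se C.ne.symm).of_dvd_nat (card_dvd_of_le hSD)
    exact absurd (this.of_dvd_nat hd) (by decide)
  have hgen : S ≤ closure ({y : G | y ∈ S ∧ Controlled CL D y} ∪
      (⁅M ⊓ D, M ⊓ D⁆ : Subgroup G)) := by
    intro y hy
    refine subset_closure (Or.inl ⟨hy, fun k g hg hne hgk => ?_⟩)
    have hgb := hCLb g hg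
    have hyk : y ^ k • g • x = g • x := by
      have h1 := mem_stabilizer_iff.1 hgk.2
      rwa [mul_smul, mul_smul, inv_smul_eq_iff] at h1
    obtain ⟨q, hq, hq2, hqx⟩ := hlift (zpowers (y ^ k)) (zpowers_le.2 (pow_mem hy k))
      (zpowers_ne_bot.2 hne) (g • x) (zpowers_le.2 (mem_stabilizer_iff.2 hyk))
      (by rw [← mul_smul, ← (hCLz g hg).eq, mul_smul, mem_stabilizer_iff.1 C.z_memE.2.2])
      (fun e => C.ne (smul_left_cancel g (e.trans hgb.symm)))
    refine ⟨q, hq2, (mem_centralizer_zpowers.1 hq), ?_, ?_⟩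
    · refine mem_stabilizer_iff.2 ?_
      rw [mul_smul, hgb, inv_smul_eq_iff, hCLb q (CfsgLib.Bender.Transfer.twoGen_le CL hq2)]
    · refine mem_stabilizer_iff.2 ?_
      rw [mul_smul, ← hqx, inv_smul_smul]
  have hder : ⁅M ⊓ D, M ⊓ D⁆ ≤ ⁅M ⊓ K, M ⊓ K⁆ := by
    have hc : ∀ g ∈ M ⊓ K, ∀ w ∈ zpowers z, Commute g w := fun g hg w hw => by
      obtain ⟨j, rfl⟩ := hw
      exact (hCLz g (hM hg.1)).zpow_right j
    rw [commutator_le]
    intro a ha b hb
    obtain ⟨a', ha', i, hi, rfl⟩ := CfsgLib.Coprime.mem_sup_exists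
      (show zpowers z ≤ normalizer ((M ⊓ K : Subgroup G) : Set G) from fun w hw =>
        centralizer_le_normalizer _ (mem_centralizer_iff.2 fun g hg => (hc g hg w hw).eq)) (hsup ha)
    obtain ⟨b', hb', j, hj, rfl⟩ := CfsgLib.Coprime.mem_sup_exists
      (show zpowers z ≤ normalizer ((M ⊓ K : Subgroup G) : Set G) from fun w hw =>
        centralizer_le_normalizer _ (mem_centralizer_iff.2 fun g hg => (hc g hg w hw).eq)) (hsup hb)
    have hij : Commute i j := by
      obtain ⟨i', rfl⟩ := hi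
      obtain ⟨j', rfl⟩ := hj
      exact (Commute.refl z).zpow_zpow i' j'
    have h1 := hc a' ha' i hi
    have h2 := hc a' ha' j hj
    have h3 := hc b' hb' i hi
    have h4 := hc b' hb' j hj
    have e : ⁅a' * i, b' * j⁆ = ⁅a', b'⁆ := by
      rw [commutatorElement_def, commutatorElement_def]
      calc a' * i * (b' * j) * (a' * i)⁻¹ * (b' * j)⁻¹
          = a' * (i * b') * (j * i⁻¹) * a'⁻¹ * j⁻¹ * b'⁻¹ := by group
        _ = a' * (b' * i) * (i⁻¹ * j) * a'⁻¹ * j⁻¹ * b'⁻¹ := by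
          rw [h3.symm.eq, hij.inv_left.symm.eq]
        _ = a' * b' * (j * a'⁻¹) * j⁻¹ * b'⁻¹ := by group
        _ = a' * b' * (a'⁻¹ * j) * j⁻¹ * b'⁻¹ := by rw [h2.symm.inv_right.eq]
        _ = a' * b' * a'⁻¹ * b'⁻¹ := by group
    rw [e]
    exact commutator_mem_commutator ha' hb'
  have hne := not_le_qKer (H := CL) (D := D) hM hMtwo hSsyl hSsylM hgen
    (fun h => hSne (h.trans hder))
  refine ⟨qKer l M, qKer_le l M, fun h => hne (hSM.trans h),
    hMn.trans (le_normalizer_qKer l M), twoGen_le_qKer hl.out hl2 hMtwo, fun g hg hgs => ?_⟩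
  refine mem_sup_right (subset_closure ⟨hMs g hg hgs, fun hd => ?_⟩)
  obtain ⟨i, hi⟩ := hgs ⟨g, mem_zpowers g⟩
  have h5 : l ∣ s ^ i := hd.trans (orderOf_dvd_of_pow_eq_one (congrArg Subtype.val hi))
  exact hls ((Nat.prime_dvd_prime_iff_eq hl.out C.prime).1 (hl.out.dvd_of_dvd_pow h5))

omit hK hKs hKmem hKR hR in
/-- If `z` centralizes an element of prime order dividing `m`, the layer can be lowered. -/
theorem canLower_of_central_pi {a : G} (ha : a ∈ L ⊓ pairStab (base H) x) (hap : (orderOf a).Prime)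
    (ham : orderOf a ∣ numInv H) (haz : Commute a z) : CanLower (pairStab (base H) x) L := by
  classical
  haveI := C.fact
  set D := pairStab (base H) x with hD
  obtain ⟨p, hp⟩ : ∃ p, orderOf a = p := ⟨_, rfl⟩
  haveI : Fact p.Prime := ⟨hp ▸ hap⟩
  have hpm : p ∣ numInv H := hp ▸ ham
  have hsp0 : s ≠ p := fun e => C.not_dvd (e ▸ hpm)
  obtain ⟨K, hK, hKs, hKmem, hKn, hKR⟩ := C.exists_kernel
  have haK : a ∈ K := hKmem a ha fun hd => hsp0
    ((Nat.prime_dvd_prime_iff_eq C.prime Fact.out).1 (hp ▸ hd))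
  set K0 := K ⊓ centralizer (zpowers z : Set G) with hK0
  obtain ⟨A, hA, hA1, hRA⟩ := C.exists_pi_sylow hK hKs hKn haK hp haz
  have hsp : s < p := C.lt_of_pi_sylow hK hKs hKmem hKn hKR hpm hA hA1
  have hK0D : K0 ≤ D := inf_le_left.trans (hK.trans inf_le_right)
  have hAt : ∀ g ∈ A, Commute g t := fun g hg =>
    C.commute_t_of_comm (mem_stabilizer_iff.1 (hK0D (hA.1 hg)).1)
      (mem_centralizer_zpowers.1 (hA.1 hg).2)
  have hAN : Nonlonely A := C.nonlonely_of_pi hpm hA.isPGroup (hA.1.trans hK0D) hAt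
  have hRs : R = zpowers z := by
    have h1 := (C.galois_at hA.isPGroup hA1 hAN (hA.1.trans hK0D) hAt le_rfl C.z_mem hRA).1
    exact (eq_of_le_of_card_ge (zpowers_le.2 C.z_mem) (by rw [h1, Nat.card_zpowers, C.z_order])).symm
  have hp2 : p ≠ 2 := ne_two_of_dvd C.setting.se hpm C.ne.symm
  set CL := L ⊓ centralizer (zpowers z : Set G) with hCL
  have hK0CL : K0 ≤ CL := fun g hg => ⟨(hK hg.1).1, hg.2⟩
  have hCLz : ∀ g ∈ CL, Commute g z := fun g hg => mem_centralizer_zpowers.1 hg.2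
  have hCLb : ∀ g ∈ CL, g • base H = base H := fun g hg => smul_base.2 (C.layer.le hg.1)
  have hb : base H ∈ fixSet A H := (hA.1.trans hK0D).trans inf_le_left
  have hx : x ∈ fixSet A H := (hA.1.trans hK0D).trans inf_le_right
  obtain ⟨P, hP⟩ := C.setting.exists_localData hA.isPGroup hA1 hAN hb
    (three_of_nonlonely C.setting.se (hA.1.trans hK0D) C.ne.symm hAN)
  have hzA : z ∈ centralizer (A : Set G) :=
    mem_centralizer_iff.2 fun g hg => (mem_centralizer_zpowers.1 (hA.1 hg).2).eq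
  have hzK : z ∉ fixKer A H := hP.notMem_fixKer C.setting hb hx C.ne hAN C.lonely
  have hRsyl : IsSylowIn s (zpowers z) (L ⊓ D) := hRs ▸ C.sylow
  -- `A` is Sylow in `C_L(z)`
  have hAD : IsSylowIn p A (CL ⊓ D) := by
    obtain ⟨Q, hQ, hAQ⟩ := exists_sylowIn_ge (K := CL ⊓ D) hA.isPGroup
      (le_inf (hA.1.trans hK0CL) (hA.1.trans hK0D))
    refine sylowIn_eq_of_le hA hQ.isPGroup (fun g hg => ⟨?_, (hQ.1 hg).1.2⟩) hAQ ▸ hQ
    refine hKmem g ⟨(hQ.1 hg).1.1, (hQ.1 hg).2⟩ fun hd => hsp0 ?_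
    obtain ⟨i, hi⟩ := hQ.isPGroup ⟨g, hg⟩
    exact (Nat.prime_dvd_prime_iff_eq C.prime Fact.out).1 (C.prime.dvd_of_dvd_pow
      (hd.trans (orderOf_dvd_of_pow_eq_one (congrArg Subtype.val hi))))
  have hACL : IsSylowIn p A CL := hP.sylow_of_lift C.setting hx C.ne hp2
    (fun g hg h2 => C.two_mem hg h2) C.z_order hzA C.z_memE hzK hRsyl
    (fun g hg => mem_stabilizer_iff.2 (hCLb g hg)) hCLz
    (fun g hg hgz h2 => ⟨C.two_mem hg h2, mem_centralizer_zpowers.2 hgz⟩) hAD
  -- the normalizer of `⟨z⟩` in `L` centralizes it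
  have hNz : ∀ n ∈ L, n ∈ normalizer (zpowers z : Set G) → Commute n z := by
    intro n hnL hnN
    have hnCL : n ∈ normalizer (CL : Set G) := by
      refine mem_normalizer_iff.2 fun g => ?_
      have h1 := mem_normalizer_iff.1 (le_normalizer hnL) g
      have h2 := mem_normalizer_iff.1
        (CfsgLib.Coprime.normalizer_le_normalizer_centralizer _ hnN) g
      exact ⟨fun h => ⟨h1.1 h.1, h2.1 h.2⟩, fun h => ⟨h1.2 h.1, h2.2 h.2⟩⟩
    obtain ⟨c, hc, hcA⟩ := (hACL.conjBy hnCL).exists_conj hACL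
    rw [CfsgLib.Coprime.conjBy_conjBy] at hcA
    have hn'A : c * n ∈ normalizer (A : Set G) := CfsgLib.Coprime.conjBy_eq_self_iff.1 hcA
    have hn'N : c * n ∈ normalizer (zpowers z : Set G) :=
      mul_mem (centralizer_le_normalizer _ hc.2) hnN
    have hn'L : c * n ∈ L := L.mul_mem hc.1 hnL
    have hn'b : (c * n) • base H = base H := smul_base.2 (C.layer.le hn'L)
    obtain ⟨q, -, hq2, hqb, hqx, hqz⟩ := hP.exists_lift C.setting hx C.ne
      (fun g hg h2 => C.two_mem hg h2) C.z_order hzA C.z_memE hzK hRsyl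
      (smul_mem_fixSet hn'A hx)
      (smul_eq_of_mem (smul_mem_fixSet hn'N (zpowers_le.2 C.z_memE.2.2 : x ∈ fixSet (zpowers z) H))
        (mem_zpowers z))
      (fun e => C.ne (smul_left_cancel (c * n) (e.trans hn'b.symm)))
    have hqL : q ∈ L := C.two_mem hqb hq2
    have he : q⁻¹ * (c * n) ∈ L ⊓ D := ⟨L.mul_mem (L.inv_mem hqL) hn'L,
      mem_stabilizer_iff.2 (by rw [mul_smul, hn'b, inv_smul_eq_iff, hqb]),
      mem_stabilizer_iff.2 (by rw [mul_smul, ← hqx, inv_smul_smul])⟩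
    have he' : q⁻¹ * (c * n) ∈ normalizer (R : Set G) := by
      rw [hRs]
      exact mul_mem (inv_mem (centralizer_le_normalizer _ (mem_centralizer_zpowers.2 hqz))) hn'N
    have h1 := (hqz.mul_left (C.commute_of_normalize he he' C.z_mem))
    rw [mul_inv_cancel_left] at h1
    have h2 := (hCLz c hc).inv_left.mul_left h1
    rwa [inv_mul_cancel_left] at h2
  -- a normal subgroup of order prime to `p` with all `s`-elements
  have hex : ∃ n, ∃ M : Subgroup G, M ≤ CL ∧ CL ≤ normalizer (M : Set G) ∧ twoGen CL ≤ M ∧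
      (∀ g ∈ CL, IsPGroup s (zpowers g) → g ∈ M) ∧ Nat.card M = n :=
    ⟨_, CL, le_rfl, le_normalizer, CfsgLib.Bender.Transfer.twoGen_le CL, fun g hg _ => hg, rfl⟩
  obtain ⟨M, hM, hMn, hMtwo, hMs, hcard⟩ := Nat.find_spec hex
  have hpM : ¬ p ∣ Nat.card M := by
    intro hd
    -- `A ⊓ M` is not trivial
    obtain ⟨g, hg⟩ := exists_prime_orderOf_dvd_card' (G := M) p hd
    have hgp : IsPGroup p (zpowers (g : G)) := IsPGroup.of_card (n := 1) (by
      rw [Nat.card_zpowers, orderOf_coe, hg, pow_one])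
    obtain ⟨c, hc, hcA⟩ := exists_conjBy_le hgp (zpowers_le.2 (hM g.2)) hACL
    have hgA : c * g * c⁻¹ ∈ A := hcA ⟨g, mem_zpowers _, rfl⟩
    have hgM : c * g * c⁻¹ ∈ M := (mem_normalizer_iff.1 (hMn hc) g).1 g.2
    have hgne : c * g * c⁻¹ ≠ 1 := fun e => by
      have h1 : (g : G) = 1 := conj_eq_one_iff.1 e
      rw [← orderOf_coe, h1, orderOf_one] at hg
      exact (Fact.out : p.Prime).ne_one hg.symm
    have hne : M ⊓ K ≠ ⊥ := fun e => hgne (mem_bot.1 (e ▸ (⟨hgM, (hA.1 hgA).1⟩ :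
      c * g * c⁻¹ ∈ M ⊓ K)))
    have hMK : M ⊓ K ≤ K0 := fun k hk => ⟨hk.2, (hM hk.1).2⟩
    have hsolv : Group.IsSolvable ↥(M ⊓ K) := CfsgLib.Bender.isSolvable_of_odd_card
      ((odd_pairStab C.setting.se C.ne.symm).of_dvd_nat
        (card_dvd_of_le (hMK.trans hK0D)))
    obtain ⟨l, S, hl, hls, hS, hSne, hSN⟩ : ∃ (l : ℕ) (S : Subgroup G), l.Prime ∧ l ≠ s ∧
        IsSylowIn l S (M ⊓ K) ∧ ¬ S ≤ ⁅M ⊓ K, M ⊓ K⁆ ∧ Nonlonely S := by
      rcases C.nonlonely_or_commutator hK hKs hpm with hN | hN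
      · obtain ⟨l, S, hl, hS, hSne⟩ := exists_sylow_not_le_commutator hsolv hne
        refine ⟨l, S, hl, fun e => ?_, hS, hSne, hN.mono (hS.1.trans hMK)⟩
        subst e
        have h1 := hS.2
        rw [Nat.factorization_eq_zero_of_not_dvd (fun hd' => hKs (hd'.trans
          (card_dvd_of_le inf_le_right))), pow_zero] at h1
        exact hSne (Subgroup.card_eq_one.1 h1 ▸ bot_le)
      · have hS' : IsPGroup p (zpowers (c * g * c⁻¹)) := hA.isPGroup.to_le (zpowers_le.2 hgA)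
        obtain ⟨S, hS, hgS⟩ := exists_sylowIn_ge (K := M ⊓ K) hS'
          (zpowers_le.2 ⟨hgM, (hA.1 hgA).1⟩)
        refine ⟨p, S, Fact.out, hsp0.symm, hS, fun hle => hN ?_, C.nonlonely_of_pi hpm hS.isPGroup
          ((hS.1.trans hMK).trans hK0D) fun k hk => C.commute_t_of_comm
            (mem_stabilizer_iff.1 (hK0D (hMK (hS.1 hk))).1)
            (mem_centralizer_zpowers.1 (hMK (hS.1 hk)).2)⟩
        have h1 : orderOf (c * g * c⁻¹) = p := by
          rw [show c * (g : G) * c⁻¹ = MulAut.conj c (g : G) from rfl, MulEquiv.orderOf_eq,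
            orderOf_coe, hg]
        exact h1 ▸ Subgroup.orderOf_dvd_natCard _
          (commutator_mono hMK hMK (hle (hgS (mem_zpowers _))))
    haveI := Fact.mk hl
    obtain ⟨M', hM', hlt, hM'n, hM'two, hM's⟩ :=
      C.lower_cent hK hKs hKmem hKR hRs hM hMn hMtwo hMs hls hS hSne hSN
    refine Nat.find_min hex (m := Nat.card M') ?_
      ⟨M', hM'.trans hM, hM'n, hM'two, hM's, rfl⟩
    rw [← hcard]
    exact lt_of_le_of_ne (card_le_of_le hM') fun e =>
      hlt (eq_of_le_of_card_ge hM' e.ge).ge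
  -- an invariant Sylow subgroup
  have hcop : (Nat.card A).Coprime (Nat.card M) := by
    obtain ⟨i, hi⟩ := hA.isPGroup.exists_card_eq
    rw [hi]
    exact Nat.Coprime.pow_left i ((Fact.out : p.Prime).coprime_iff_not_dvd.2 hpM)
  haveI := hA.isPGroup.isNilpotent
  obtain ⟨S0, hS0, hAS0⟩ := CfsgLib.Coprime.exists_invariant_sylow
    ((hA.1.trans hK0CL).trans hMn) hcop (Or.inl inferInstance) s
  have hS0CL : S0 ≤ CL := hS0.1.trans hM
  have hzS0 : z ∈ S0 := by
    obtain ⟨c, hc, hcz⟩ := exists_conjBy_le (IsPGroup.of_card (n := 1) (by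
      rw [Nat.card_zpowers, C.z_order, pow_one]) : IsPGroup s (zpowers z))
      (zpowers_le.2 (hMs z ⟨C.z_memE.1, mem_centralizer_zpowers.2 (Commute.refl z)⟩
        (IsPGroup.of_card (n := 1) (by rw [Nat.card_zpowers, C.z_order, pow_one])))) hS0
    have h1 : c * z * c⁻¹ ∈ S0 := hcz ⟨z, mem_zpowers z, rfl⟩
    rwa [(hCLz c (hM hc)).eq, mul_inv_cancel_right] at h1
  by_cases hle : S0 ≤ zpowers z
  · -- Burnside
    have hzL : IsSylowIn s (zpowers z) L := by
      refine sylowIn_of_normalizer ?_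
      obtain ⟨Q, hQ, hzQ⟩ := exists_sylowIn_ge (K := normalizer (zpowers z : Set G) ⊓ L)
        (IsPGroup.of_card (n := 1) (by rw [Nat.card_zpowers, C.z_order, pow_one]) :
          IsPGroup s (zpowers z)) (le_inf le_normalizer (zpowers_le.2 C.z_memE.1))
      have hQM : Q ≤ M := fun g hg => hMs g ⟨(hQ.1 hg).2,
        mem_centralizer_zpowers.2 (hNz g (hQ.1 hg).2 (hQ.1 hg).1)⟩
        (hQ.isPGroup.to_le (zpowers_le.2 hg))
      have h1 := isPGroup_card_le hQ.isPGroup hQM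
      rw [rPart, ← hS0.2] at h1
      exact eq_of_le_of_card_ge hzQ (h1.trans (card_le_of_le hle)) ▸ hQ
    refine ⟨s, zpowers z, C.prime, C.s_ne_two, hRsyl, hzL,
      not_le_qKer_of_central hzL (fun n hn hnN r hr => ?_) (zpowers_ne_bot.2 C.z_ne)⟩
    obtain ⟨j, rfl⟩ := hr
    exact (hNz n hn hnN).zpow_right j
  · exfalso
    have hS0L : S0 ≤ L := fun g hg => (hS0CL hg).1
    obtain ⟨g, hgS, hgz, hgA⟩ := exists_commute_outside hsp hA.isPGroup hS0.isPGroup hAS0
      C.z_order hzS0 (fun k hk => hCLz k (hS0CL hk))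
      (fun k hk => mem_centralizer_zpowers.1 (hA.1 hk).2) hle
      (fun c hc y hy h1 h2 h3 h4 =>
        C.no_pair hRs hS0.isPGroup hS0L (fun k hk => hCLz k (hS0CL hk)) hzS0 hc hy h1 h2 h3 h4)
    have hzN : zpowers z ≤ normalizer (A : Set G) ⊓ stabilizer G (base H) :=
      zpowers_le.2 ⟨centralizer_le_normalizer _ hzA, C.z_memE.2.1⟩
    obtain ⟨j, hj⟩ := hP.ncard_fix_inter C.setting hb hx C.ne hzN (zpowers_le.2 C.z_memE.2.2)
    obtain ⟨y, ⟨-, hyz, hyb⟩, hyg⟩ := exists_fixed_of_two_pow C.s_ne_two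
      (hS0.isPGroup.to_le (zpowers_le.2 hgS)) (fun q hq y hy => by
        obtain ⟨h1, h2, h3⟩ := hy
        have hqA : q ∈ centralizer (A : Set G) :=
          (zpowers_le.2 (mem_centralizer_iff.2 fun k hk => (hgA k hk).eq) :
            zpowers g ≤ centralizer (A : Set G)) hq
        have hqC : q ∈ CL := hS0CL ((zpowers_le.2 hgS : zpowers g ≤ S0) hq)
        exact ⟨smul_mem_fixSet (centralizer_le_normalizer _ hqA) h1,
          smul_mem_fixSet (centralizer_le_normalizer _ hqC.2) h2,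
          fun e => h3 (smul_left_cancel q (e.trans (hCLb q hqC).symm))⟩) hj
    refine hgz (C.mem_zpowers_of_fixed hRs
      (hS0.isPGroup.to_le (sup_le (zpowers_le.2 hzS0) (zpowers_le.2 hgS)))
      ((sup_le (zpowers_le.2 hzS0) (zpowers_le.2 hgS)).trans hS0L) (mem_sup_left (mem_zpowers z))
      hyb ?_ (mem_sup_right (mem_zpowers g)))
    have h5 : zpowers z ⊔ zpowers g ≤ stabilizer G y :=
      sup_le hyz (fun q hq => mem_stabilizer_iff.2 (hyg q hq))
    exact fun k hk => mem_stabilizer_iff.1 (h5 hk)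

end Cyc

end CfsgLib.Bender.Full
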