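import Cfsg.Agent.Lib.Bender.Full.Cyclic.Setup
import Cfsg.Agent.Lib.Bender.Full.Fpf
import Cfsg.Agent.Lib.PGroup.CoprimeHall
import Cfsg.Agent.Lib.PGroup.FixedPointFree

/-!
# From the cyclic case to the fixed point free data

The swapper `w` commuting with `z` is unique, so it centralizes the normalizer of `⟨z⟩` in `D`.  The
product of another swapper with `w` lies in the normal closure of `z` in `D`, hence in the complement,
which `w` therefore normalizes.
-/

set_option autoImplicit false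
set_option linter.style.haveILetI false
set_option linter.unusedSectionVars false

namespace CfsgLib.Bender.Full

open Subgroup MulAction
open CfsgLib.Coprime (IsSylowIn conjBy IsHallIn IsPiNum)
open CfsgLib.Invol (invol_conj invol_inv invol_mul_self invol_smul_smul)

universe u

variable {G : Type u} [Group G] [Finite G] {H : Subgroup G}

/-- A pair element inverted by a swapper has order built from the primes of the number of involutions. -/
theorem Setting.dvd_numInv_of_inverted (h : Setting H) {a c : G ⧸ H} (hac : a ≠ c) {v : G}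
    (hv : orderOf v = 2) (hva : v • a = c) {f : G} (hf : f ∈ pairStab a c)
    (hinv : v * f * v⁻¹ = f⁻¹) {r : ℕ} (hr : r.Prime) (hrf : r ∣ orderOf f) : r ∣ numInv H := by
  by_contra hrm
  haveI : Fact r.Prime := ⟨hr⟩
  set g := f ^ (orderOf f / r) with hg
  have hgo : orderOf g = r := orderOf_pow_orderOf_div (orderOf_pos f).ne' hrf
  have hg1 : g ≠ 1 := fun e => hr.ne_one (by rw [← hgo, e, orderOf_one])
  have hgD : g ∈ pairStab a c := pow_mem hf _
  have hginv : v * g * v⁻¹ = g⁻¹ := by rw [hg, ← conj_pow, hinv, inv_pow]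
  have h3 := h.three_of_not_dvd hrm hac (A := zpowers g)
    (IsPGroup.of_card (n := 1) (by rw [Nat.card_zpowers, hgo, pow_one])) (zpowers_le.2 hgD)
  have hle : (fixSet (zpowers g) H).ncard ≤ 2 := by
    have hsub : fixSet (zpowers g) H ⊆ {a, c} := fun z hz => by
      rcases h.fix_of_inverted hac hv hva hgD hg1 hginv (smul_eq_of_mem hz (mem_zpowers g)) with e | e
      · exact Or.inl e
      · exact Or.inr e
    exact (Set.ncard_le_ncard hsub).trans ((Set.ncard_insert_le _ _).trans (by simp))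
  omega

/-- A subgroup of index prime to the length of an orbit is transitive on it. -/
theorem exists_conj_of_coprime {K P : Subgroup G} (hPK : P ≤ K) {u : G} {p : G → Prop} (hu : p u)
    (hclosed : ∀ k ∈ K, p (k * u * k⁻¹)) (htr : ∀ v, p v → ∃ k ∈ K, k * u * k⁻¹ = v)
    (hcop : (P.relIndex K).Coprime (Nat.card {v : G // p v})) :
    ∀ v, p v → ∃ k ∈ P, k * u * k⁻¹ = v := by
  set C := centralizer ({u} : Set G) with hC
  set q : G → Prop := fun v => ∃ k ∈ P, k * u * k⁻¹ = v with hq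
  have hK : C.relIndex K = Nat.card {v : G // p v} := relIndex_eq_card hu hclosed htr
  have hP : C.relIndex P = Nat.card {v : G // q v} :=
    relIndex_eq_card ⟨1, P.one_mem, by group⟩ (fun d hd => ⟨d, hd, rfl⟩) fun v hv => hv
  have hdvd : Nat.card {v : G // p v} ∣ C.relIndex P * P.relIndex K := by
    rw [← hK, show C.relIndex P = (C ⊓ P).relIndex P from (inf_relIndex_right C P).symm,
      relIndex_mul_relIndex _ _ _ inf_le_right hPK, ← inf_relIndex_right C K,
      ← relIndex_mul_relIndex (C ⊓ P) (C ⊓ K) K (inf_le_inf_left _ hPK) inf_le_right]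
    exact dvd_mul_left _ _
  have hle : Nat.card {v : G // p v} ≤ Nat.card {v : G // q v} := by
    refine Nat.le_of_dvd ?_ (hP ▸ hcop.symm.dvd_of_dvd_mul_right hdvd)
    haveI : Nonempty {v : G // q v} := ⟨⟨u, 1, P.one_mem, by group⟩⟩
    exact Nat.card_pos
  have hsub : {v : G | q v} ⊆ {v : G | p v} := by
    rintro _ ⟨k, hk, rfl⟩
    exact hclosed k (hPK hk)
  have heq : {v : G | q v} = {v : G | p v} := Set.eq_of_subset_of_ncard_le hsub hle
  exact fun v hv => heq.ge hv

namespace Cyc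

variable {x : G ⧸ H} {L R : Subgroup G} {s : ℕ} {z t : G} (C : Cyc H x L R s z t)
include C

theorem odd_prime : Odd s := by
  refine (odd_pairStab C.setting.se C.ne.symm).of_dvd_nat ?_
  rw [← C.z_order]
  exact orderOf_dvd_natCard _ C.z_memE.2

/-- Some swapper commutes with `z`. -/
theorem exists_swapper_comm : ∃ w : G, orderOf w = 2 ∧ w • base H = x ∧ Commute w z := by
  haveI := C.fact
  let Sw := {v : G // orderOf v = 2 ∧ v • base H = x}
  letI : MulAction (zpowers z) Sw :=
    { smul := fun g v => ⟨(g : G) * v * (g : G)⁻¹, invol_conj v.2.1 _, by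
        have hgD : (g : G) ∈ pairStab (base H) x := zpowers_le.2 C.z_memE.2 g.2
        rw [mul_smul, mul_smul, inv_smul_eq_iff.2 (mem_stabilizer_iff.1 hgD.1).symm, v.2.2,
          mem_stabilizer_iff.1 hgD.2]⟩
      one_smul := fun v => Subtype.ext (show ((1 : zpowers z) : G) * v * ((1 : zpowers z) : G)⁻¹ = v by
        simp)
      mul_smul := fun g g' v => Subtype.ext (show ((g * g' : zpowers z) : G) * v *
          ((g * g' : zpowers z) : G)⁻¹ = (g : G) * ((g' : G) * v * (g' : G)⁻¹) * (g : G)⁻¹ by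
        simp [mul_assoc]) }
  have hcard : Nat.card Sw = numInv H := CfsgLib.Invol.card_swap_eq C.setting.se _ _ C.ne.symm
  obtain ⟨w, hw⟩ := (C.sylow.isPGroup.to_le (zpowers_le.2 C.z_mem)).nonempty_fixed_point_of_prime_not_dvd_card
    Sw (hcard.symm ▸ C.not_dvd)
  have h1 : z * w.1 * z⁻¹ = w.1 := congrArg Subtype.val (hw ⟨z, mem_zpowers z⟩)
  exact ⟨w.1, w.2.1, w.2.2, (mul_inv_eq_iff_eq_mul.1 h1).symm⟩

/-- Only one swapper commutes with `z`. -/
theorem swapper_unique {v w : G} (hv : orderOf v = 2) (hvb : v • base H = x) (hvz : Commute v z)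
    (hw : orderOf w = 2) (hwb : w • base H = x) (hwz : Commute w z) : v = w := by
  set f := v * w with hf
  have hwx : w • x = base H := by rw [← hwb, invol_smul_smul hw]
  have hvx : v • x = base H := by rw [← hvb, invol_smul_smul hv]
  have hfD : f ∈ pairStab (base H) x :=
    ⟨mem_stabilizer_iff.2 (by rw [hf, mul_smul, hwb, hvx]),
      mem_stabilizer_iff.2 (by rw [hf, mul_smul, hwx, hvb])⟩
  by_contra hne
  have hf1 : f ≠ 1 := fun e => hne (by rw [eq_inv_of_mul_eq_one_left e, invol_inv hw])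
  have hinv : w * f * w⁻¹ = f⁻¹ := by
    rw [hf, mul_inv_rev, invol_inv hw, invol_inv hv, mul_assoc, mul_assoc, invol_mul_self hw, mul_one]
  exact C.setting.not_commute_of_inverted C.ne.symm hw hwb hfD hf1 hinv C.t_order
    (C.commute_t_of_comm (mem_stabilizer_iff.1 hfD.1) (hvz.mul_left hwz)).symm

/-- The case where `z` centralizes no element of prime order dividing the number of involutions. -/
theorem exists_fpf (hnc : ∃ u ∈ H, ∃ v ∈ H, orderOf u = 2 ∧ orderOf v = 2 ∧ ¬ Commute u v)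
    (hfpf : ∀ a ∈ L ⊓ pairStab (base H) x, (orderOf a).Prime → orderOf a ∣ numInv H → ¬ Commute a z) :
    ∃ (P : Subgroup G) (w : G), Fpf H x L P s z t w := by
  haveI := C.fact
  set D := pairStab (base H) x with hD
  obtain ⟨w, hw, hwb, hwz⟩ := C.exists_swapper_comm
  have hwD : w ∈ normalizer (D : Set G) := mem_normalizer_pairStab hw hwb
  have hwN : ∀ n ∈ D, n ∈ normalizer (zpowers z : Set G) → n * w * n⁻¹ = w := by
    intro n hn hnz
    have hnb : n • base H = base H := mem_stabilizer_iff.1 hn.1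
    refine C.swapper_unique (invol_conj hw n) ?_ ?_ hw hwb hwz
    · rw [mul_smul, mul_smul, inv_smul_eq_iff.2 hnb.symm, hwb, mem_stabilizer_iff.1 hn.2]
    · exact mem_centralizer_zpowers.1 ((mem_normalizer_iff.1
        (CfsgLib.Coprime.normalizer_le_normalizer_centralizer _ hnz) w).1 (mem_centralizer_zpowers.2 hwz))
  obtain ⟨K, hK, hKs, hKmem, hKn, hKR⟩ := C.exists_kernel
  have hRK : R ≤ normalizer (K : Set G) := (C.sylow.1.trans inf_le_right).trans hKn
  -- the normal closure of `z` in `D`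
  set U := closure {c : G | ∃ d ∈ D, d * z * d⁻¹ = c} with hU
  have hUE : U ≤ L ⊓ D := (closure_le _).2 (by
    rintro _ ⟨d, hd, rfl⟩
    exact ⟨(mem_normalizer_iff.1 (C.layer.norm (pairStab_base_le H x hd)) z).1 C.z_memE.1,
      D.mul_mem (D.mul_mem hd C.z_memE.2) (D.inv_mem hd)⟩)
  have hwU : ∀ c ∈ U, w * c * w⁻¹ ∈ U := by
    suffices hle : U.map (MulAut.conj w).toMonoidHom ≤ U from fun c hc => hle ⟨c, hc, rfl⟩
    rw [hU, MonoidHom.map_closure]
    refine Subgroup.closure_mono ?_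
    rintro _ ⟨_, ⟨d, hd, rfl⟩, rfl⟩
    refine ⟨w * d * w⁻¹, (mem_normalizer_iff.1 hwD d).1 hd, ?_⟩
    show w * d * w⁻¹ * z * (w * d * w⁻¹)⁻¹ = w * (d * z * d⁻¹) * w⁻¹
    calc w * d * w⁻¹ * z * (w * d * w⁻¹)⁻¹ = w * d * (w⁻¹ * z * w) * d⁻¹ * w⁻¹ := by group
      _ = _ := by rw [mul_assoc w⁻¹, ← hwz.eq, inv_mul_cancel_left]; group
  obtain ⟨S, hS, hzS⟩ := exists_sylowIn_ge (C.sylow.isPGroup.to_le (zpowers_le.2 C.z_mem))
    (zpowers_le.2 (subset_closure ⟨1, D.one_mem, by group⟩) : zpowers z ≤ U)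
  have hline : ∀ u ∈ S, u ^ s = 1 → u ∈ zpowers z := by
    intro u hu hus
    obtain ⟨g, -, hg⟩ := exists_conjBy_le hS.isPGroup (hS.1.trans hUE) C.sylow
    have hzs : z ^ s = 1 := C.z_order ▸ pow_orderOf_eq_one z
    have h1 : g * z * g⁻¹ ∈ zpowers z := C.mem_zpowers_of_pow (hg ⟨z, hzS (mem_zpowers z), rfl⟩)
      (by rw [conj_pow, hzs]; group)
    have h2 : g * u * g⁻¹ ∈ zpowers z := C.mem_zpowers_of_pow (hg ⟨u, hu, rfl⟩)
      (by rw [conj_pow, hus]; group)
    have hg1 : zpowers (g * z * g⁻¹) = zpowers z := eq_of_le_of_card_ge (zpowers_le.2 h1)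
      (by rw [Nat.card_zpowers, Nat.card_zpowers, show g * z * g⁻¹ = MulAut.conj g z from rfl,
        MulEquiv.orderOf_eq])
    obtain ⟨k, hk⟩ := hg1.ge h2
    refine ⟨k, ?_⟩
    have hk' : g * z ^ k * g⁻¹ = g * u * g⁻¹ := by rw [← conj_zpow]; exact hk
    exact mul_left_cancel (mul_right_cancel hk')
  -- every element of `D` is one of `U` times one normalizing `⟨z⟩`
  have hdec : ∀ d ∈ D, ∃ e ∈ U, e * d ∈ D ∧ e * d ∈ normalizer (zpowers z : Set G) := by
    intro d hd
    have hzd : d * z * d⁻¹ ∈ U := subset_closure ⟨d, hd, rfl⟩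
    obtain ⟨e, he, hle⟩ := exists_conjBy_le (r := s) (Q := zpowers (d * z * d⁻¹))
      (IsPGroup.of_card (n := 1) (by
        rw [Nat.card_zpowers, pow_one, show d * z * d⁻¹ = MulAut.conj d z from rfl,
          MulEquiv.orderOf_eq, C.z_order]))
      (zpowers_le.2 hzd) hS
    refine ⟨e, he, D.mul_mem (hUE he).2 hd, CfsgLib.Coprime.conjBy_eq_self_iff.1
      (eq_of_le_of_card_ge ?_ (by rw [CfsgLib.Coprime.card_conjBy]))⟩
    rw [conjBy, MonoidHom.map_zpowers, zpowers_le]
    have h1 : e * (d * z * d⁻¹) * e⁻¹ ∈ zpowers z := hline _ (hle ⟨_, mem_zpowers _, rfl⟩) (by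
      rw [conj_pow, conj_pow, ← C.z_order, pow_orderOf_eq_one]; group)
    simpa [mul_assoc] using h1
  -- every swapper is conjugate to `w` under `K`, and differs from it by an element of `K`
  have hsw : ∀ v : G, orderOf v = 2 → v • base H = x →
      (∃ k ∈ K, k * w * k⁻¹ = v) ∧ v * w ∈ K := by
    intro v hv hvb
    obtain ⟨d, hdb, hdx, hdv⟩ := CfsgLib.Invol.swap_conj C.setting.se C.ne.symm hw hv hwb hvb
    obtain ⟨e, he, hedD, hedN⟩ := hdec d ⟨mem_stabilizer_iff.2 hdb, mem_stabilizer_iff.2 hdx⟩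
    have hve : v = e⁻¹ * w * e := by
      have h1 := hwN _ hedD hedN
      rw [← hdv]
      calc d * w * d⁻¹ = e⁻¹ * (e * d * w * (e * d)⁻¹) * e := by group
        _ = _ := by rw [h1]
    refine ⟨?_, ?_⟩
    · obtain ⟨k, hk, r, hr, hkr⟩ := CfsgLib.Coprime.mem_sup_exists hRK (hKR (inv_mem (hUE he)))
      refine ⟨k, hk, ?_⟩
      have h1 := hwN r (C.sylow.1 hr).2
        (centralizer_le_normalizer _ (mem_centralizer_zpowers.2 (C.commute_R hr C.z_mem)))
      rw [hve]
      calc k * w * k⁻¹ = k * (r * w * r⁻¹) * k⁻¹ := by rw [h1]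
        _ = e⁻¹ * w * e := by rw [show e = (k * r)⁻¹ by rw [hkr, inv_inv]]; group
    · have hfU : v * w ∈ U := by
        rw [hve, show e⁻¹ * w * e * w = e⁻¹ * (w * e * w⁻¹) by rw [invol_inv hw]; group]
        exact U.mul_mem (U.inv_mem he) (hwU e he)
      refine hKmem _ (hUE hfU) fun hsd => C.not_dvd ?_
      refine C.setting.dvd_numInv_of_inverted C.ne.symm hw hwb (hUE hfU).2 ?_ C.prime hsd
      rw [mul_inv_rev, invol_inv hw, invol_inv hv, mul_assoc, mul_assoc, invol_mul_self hw, mul_one]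
  have hwK : w ∈ normalizer (K : Set G) := mem_normalizer_fintype fun k hk => by
    have hkD : k ∈ D := (hK hk).2
    have h1 := (hsw (k⁻¹ * w * k) (by simpa using invol_conj hw k⁻¹) (by
      rw [mul_smul, mul_smul, mem_stabilizer_iff.1 hkD.1, hwb,
        mem_stabilizer_iff.1 (inv_mem hkD).2])).2
    have h2 := K.mul_mem hk h1
    rwa [show k * (k⁻¹ * w * k * w) = w * k * w⁻¹ by rw [invol_inv hw]; group] at h2
  -- an invariant Hall subgroup for the primes of the number of involutions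
  set π : Set ℕ := {r | r ∣ numInv H} with hπ
  have hKodd : Odd (Nat.card K) :=
    (odd_pairStab C.setting.se C.ne.symm).of_dvd_nat (card_dvd_of_le (hK.trans inf_le_right))
  have hA : zpowers (z * w) ≤ normalizer (K : Set G) :=
    zpowers_le.2 (mul_mem (hKn C.z_memE.2) hwK)
  have hzw : Commute z w := hwz.symm
  have hzs : z ^ s = 1 := C.z_order ▸ pow_orderOf_eq_one z
  have hw2 : w ^ 2 = 1 := by rw [pow_two, invol_mul_self hw]
  have hcop : (Nat.card (zpowers (z * w))).Coprime (Nat.card K) := by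
    have hd : orderOf (z * w) ∣ s * 2 := orderOf_dvd_of_pow_eq_one (by
      rw [hzw.mul_pow, pow_mul, hzs, one_pow, one_mul, mul_comm s, pow_mul, hw2, one_pow])
    rw [Nat.card_zpowers]
    exact ((C.prime.coprime_iff_not_dvd.2 hKs).mul_left (Nat.prime_two.coprime_iff_not_dvd.2
      (fun h2 => (Nat.not_even_iff_odd.2 hKodd) (even_iff_two_dvd.2 h2)))).coprime_dvd_left hd
  obtain ⟨P, hP, hPA⟩ := CfsgLib.PGroup.exists_invariant_hall hA hcop
    (CfsgLib.FT.isSolvable_of_odd K hKodd) π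
  obtain ⟨m, hm⟩ := C.odd_prime
  have hz : z ∈ zpowers (z * w) := ⟨((s + 1 : ℕ) : ℤ), by
    show (z * w) ^ ((s + 1 : ℕ) : ℤ) = z
    rw [zpow_natCast, hzw.mul_pow, pow_succ, hzs, one_mul,
      show s + 1 = 2 * (m + 1) by omega, pow_mul w, hw2, one_pow, mul_one]⟩
  have hwA : w ∈ zpowers (z * w) := by
    have h1 := mul_mem (inv_mem hz) (mem_zpowers (z * w))
    rwa [inv_mul_cancel_left] at h1
  have hPE : P ≤ L ⊓ D := hP.1.trans hK
  have hcopP : (P.relIndex K).Coprime (numInv H) :=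
    (CfsgLib.Coprime.isPiNum_coprime (π := π) (fun _ _ hd => hd) hP.2.2).symm
  have hzP := hPA hz
  have hfree : ∀ a ∈ P, Commute a z → a = 1 := by
    intro a ha haz
    by_contra ha1
    obtain ⟨r, hr, hra⟩ := Nat.exists_prime_and_dvd (fun e => ha1 (orderOf_eq_one_iff.1 e))
    have ho : orderOf (a ^ (orderOf a / r)) = r := orderOf_pow_orderOf_div (orderOf_pos a).ne' hra
    refine hfpf _ (hPE (pow_mem ha _)) (by rwa [ho]) ?_ (haz.pow_left _)
    rw [ho]
    exact hP.2.1 r hr (hra.trans (Subgroup.orderOf_dvd_natCard P ha))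
  refine ⟨P, w, C.setting, C.ne, C.layer, C.prime, C.not_dvd, hnc, C.z_memE, C.z_order, C.t_order,
    C.t_mem, C.t_comm, fun u hu huo huz => C.t_unique huo (smul_base.2 hu) huz, hw, hwb, hwz, hfpf,
    hPE, fun r hr hrP => hP.2.1 r hr hrP, fun r hr hrm hd => ?_, ?_, hzP, hPA hwA, hfree, ?_, ?_⟩
  · -- Hall
    have h1 : K.relIndex (L ⊓ D) ∣ Nat.card R := by
      have h2 : Nat.card ↥(L ⊓ D) ∣ Nat.card R * Nat.card K := (card_dvd_of_le hKR).trans
        (sup_comm R K ▸ CfsgLib.Coprime.card_sup_dvd_of_le_normalizer hRK)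
      rw [← CfsgLib.Coprime.card_mul_relIndex hK, mul_comm (Nat.card R)] at h2
      exact Nat.dvd_of_mul_dvd_mul_left Nat.card_pos h2
    rw [← relIndex_mul_relIndex P K _ hP.1 hK] at hd
    rcases hr.dvd_mul.1 hd with hd | hd
    · exact hP.2.2 r hr hd hrm
    · obtain ⟨e, he⟩ := C.sylow.isPGroup.exists_card_eq
      exact C.not_dvd ((Nat.prime_dvd_prime_iff_eq hr C.prime).1
        (hr.dvd_of_dvd_pow (he ▸ hd.trans h1)) ▸ hrm)
  · -- Thompson
    let φ : P ≃* P :=
      { toFun := fun a => ⟨z * a * z⁻¹, (mem_normalizer_iff.1 hzP a).1 a.2⟩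
        invFun := fun a => ⟨z⁻¹ * a * z, (mem_normalizer_iff''.1 hzP a).1 a.2⟩
        left_inv := fun a => Subtype.ext (by simp [mul_assoc])
        right_inv := fun a => Subtype.ext (by simp [mul_assoc])
        map_mul' := fun a b => Subtype.ext (by simp [mul_assoc]) }
    refine CfsgLib.PGroup.isNilpotent_of_fixedPointFree C.prime P φ (fun a ha => ?_) fun a => ?_
    · exact Subtype.ext (hfree a a.2 (mul_inv_eq_iff_eq_mul.1 (congrArg Subtype.val ha)).symm)
    · have key : ∀ (n : ℕ) (a : P), ((φ^[n] a : P) : G) = z ^ n * a * (z ^ n)⁻¹ := by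
        intro n
        induction n with
        | zero => simp
        | succ n ih =>
          intro a
          rw [Function.iterate_succ_apply', show ((φ (φ^[n] a) : P) : G) = z * (φ^[n] a : P) * z⁻¹
            from rfl, ih, pow_succ']
          group
      exact Subtype.ext (by rw [key, hzs]; group)
  · intro u hu huo
    refine exists_conj_of_coprime hP.1 (p := fun v => orderOf v = 2 ∧ v ∈ H) ⟨C.t_order, C.t_mem⟩
      (fun k hk => ⟨invol_conj C.t_order k, H.mul_mem (H.mul_mem (pairStab_base_le H x (hK hk).2)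
        C.t_mem) (H.inv_mem (pairStab_base_le H x (hK hk).2))⟩)
      (fun v hv => C.exists_trans hKR hKn hK hv.1 (smul_base.2 hv.2)) hcopP u ⟨huo, hu⟩
  · intro v hv hvb
    refine exists_conj_of_coprime hP.1 (p := fun v => orderOf v = 2 ∧ v • base H = x) ⟨hw, hwb⟩
      (fun k hk => ⟨invol_conj hw k, ?_⟩) (fun v hv => (hsw v hv.1 hv.2).1) ?_ v ⟨hv, hvb⟩
    · rw [mul_smul, mul_smul, mem_stabilizer_iff.1 (D.inv_mem (hK hk).2).1, hwb,
        mem_stabilizer_iff.1 (hK hk).2.2]
    · rw [CfsgLib.Invol.card_swap_eq C.setting.se _ _ C.ne.symm]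
      exact hcopP

end Cyc

end CfsgLib.Bender.Full
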