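import Cfsg.Agent.Lib.Bender.Full.Cyclic.Pure
import Cfsg.Agent.Lib.Bender.Full.Galois
import Cfsg.Agent.Lib.Bender.Full.Lift
import Cfsg.Agent.Lib.Bender.Full.Rank
import Cfsg.Agent.Lib.PGroup.NormalRankTwo
import Cfsg.Agent.Lib.Bender.OddTransitive.Basic

/-!
# A lonely element centralizing an element of order dividing the number of involutions

`z` centralizes an element of prime order `p ∣ m` of `L ⊓ D`.  Then `R = ⟨z⟩`, `p` is larger than
`s`, a Sylow `p`-subgroup of `C_{L ⊓ D}(z)` is Sylow in `C_L(z)` and the normalizer of `⟨z⟩` in `L`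
centralizes `z`.
-/

set_option autoImplicit false
set_option linter.style.haveILetI false
set_option linter.unusedSectionVars false

namespace CfsgLib.Bender.Full

open Subgroup MulAction
open scoped commutatorElement
open CfsgLib.Coprime (IsSylowIn conjBy)
open CfsgLib.Invol (fixed_unique)

universe u

variable {G : Type u} [Group G] [Finite G] {H : Subgroup G}

namespace Cyc

variable {x : G ⧸ H} {L R : Subgroup G} {s : ℕ} {z t : G} (C : Cyc H x L R s z t)
include C

theorem s_ne_two : s ≠ 2 := fun e => by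
  have h1 : Odd (orderOf z) := (odd_pairStab C.setting.se C.ne.symm).of_dvd_nat
    (Subgroup.orderOf_dvd_natCard _ C.z_memE.2)
  rw [C.z_order, e] at h1
  exact absurd h1 (by decide)

/-- A `l`-subgroup of the pair commuting with `t` is nonlonely if `l` divides `m`. -/
theorem nonlonely_of_pi {l : ℕ} [Fact l.Prime] (hlm : l ∣ numInv H) {B : Subgroup G}
    (hB : IsPGroup l B) (hBD : B ≤ pairStab (base H) x) (hBt : ∀ g ∈ B, Commute g t) :
    Nonlonely B := by
  refine C.setting.nonlonely_of_dvd hlm hB (hBD.trans inf_le_left : base H ∈ fixSet B H) ?_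
  refine (Set.two_lt_ncard_iff (Set.toFinite _)).2 ⟨base H, x, t • x, hBD.trans inf_le_left,
    hBD.trans inf_le_right, fun g hg => mem_stabilizer_iff.2 ?_, C.ne.symm, ?_, ?_⟩
  · rw [← mul_smul, (hBt g hg).eq, mul_smul, mem_stabilizer_iff.1 (hBD hg).2]
  · exact fun e => C.ne (smul_left_cancel t (e.symm.trans C.t_base.symm))
  · exact fun e => C.ne (fixed_unique C.setting.se C.t_order e.symm C.t_base)

/-- The semilinear action of what normalizes a nonlonely subgroup commuting with `t`. -/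
theorem galois_at {l : ℕ} [Fact l.Prime] {B : Subgroup G} (hB : IsPGroup l B) (hB1 : B ≠ ⊥)
    (hN : Nonlonely B) (hBD : B ≤ pairStab (base H) x) (hBt : ∀ g ∈ B, Commute g t)
    {R' : Subgroup G} (hR' : R' ≤ R) (hzR' : z ∈ R') (hR'n : R' ≤ normalizer (B : Set G)) :
    Nat.card R' = s ∧
      Nat.card {v : G // orderOf v = 2 ∧ v ∈ centralizer (B : Set G) ∧ v • base H = base H} =
        2 ^ s - 1 ∧
      ∀ g ∈ normalizer (B : Set G) ⊓ pairStab (base H) x, Commute g z → (orderOf g).Coprime s →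
        ∀ v : G, orderOf v = 2 → v ∈ centralizer (B : Set G) → v • base H = base H → Commute g v := by
  haveI := C.fact
  have hb : base H ∈ fixSet B H := hBD.trans inf_le_left
  have hx : x ∈ fixSet B H := hBD.trans inf_le_right
  have h3 := three_of_nonlonely C.setting.se hBD C.ne.symm hN
  obtain ⟨P, hP⟩ := C.setting.exists_localData hB hB1 hN hb h3
  have htB : t ∈ centralizer (B : Set G) := mem_centralizer_iff.2 fun g hg => (hBt g hg).eq
  have hRD : R' ≤ pairStab (base H) x := hR'.trans (C.sylow.1.trans inf_le_right)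
  obtain ⟨h1, h2, h3'⟩ := hP.galois C.setting hb hx C.ne h3 hB hN C.t_order htB C.t_base
    (s := s) (R := R') (le_inf hR'n hRD)
    (fun r hr => mem_centralizer_singleton_iff.2 (C.commute_t_of_comm
      (mem_stabilizer_iff.1 (hRD hr).1) (C.commute_R (hR' hr) C.z_mem)).eq)
    hzR' C.z_order (fun v hv hvb hvz => C.t_unique hv hvb hvz)
    (fun r hr hr1 => by
      by_contra hall
      push Not at hall
      obtain ⟨i, o, ho, hio⟩ := Nat.exists_eq_pow_mul_and_not_dvd (orderOf_pos r).ne' s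
        C.prime.ne_one
      obtain ⟨e, he⟩ := C.sylow.isPGroup.exists_card_eq
      have ho1 : o = 1 := by
        refine Nat.eq_one_of_dvd_coprimes (Nat.Coprime.pow_left e
          (C.prime.coprime_iff_not_dvd.2 ho)) ?_ dvd_rfl
        exact (Dvd.intro_left _ hio.symm).trans (he ▸ Subgroup.orderOf_dvd_natCard R (hR' hr))
      rw [ho1, mul_one] at hio
      cases i with
      | zero => rw [pow_zero, orderOf_eq_one_iff] at hio; exact hr1 hio
      | succ i =>
        have hr0 : orderOf (r ^ s ^ i) = s := by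
          rw [orderOf_pow' _ (pow_ne_zero _ C.prime.ne_zero), hio,
            Nat.gcd_eq_right (pow_dvd_pow s (Nat.le_succ i)), Nat.pow_div (Nat.le_succ i) C.prime.pos,
            Nat.succ_sub le_rfl, Nat.sub_self, pow_one]
        have hz0 : r ^ s ^ i ∈ zpowers z := C.mem_zpowers_of_pow (pow_mem (hR' hr) _) (by
          have h5 := pow_orderOf_eq_one (r ^ s ^ i)
          rwa [hr0] at h5)
        have heq : zpowers (r ^ s ^ i) = zpowers z := eq_of_le_of_card_ge (zpowers_le.2 hz0) (by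
          rw [Nat.card_zpowers, Nat.card_zpowers, hr0, C.z_order])
        have hzr : z ∈ zpowers (r ^ s ^ i) := heq ▸ mem_zpowers z
        obtain ⟨u, v, hu, hv, huv, -, huB, hvB, hub, hvb⟩ :=
          C.setting.exists_two_at hN C.t_order htB C.t_base
        have key : ∀ w : G, Commute w r → Commute w z := fun w hw => by
          obtain ⟨j, hj⟩ := hzr
          rw [← hj]
          exact (hw.pow_right _).zpow_right j
        exact huv ((C.t_unique hu hub (key u (hall u hu huB hub))).trans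
          (C.t_unique hv hvb (key v (hall v hv hvB hvb))).symm))
  exact ⟨h1, h2, fun g hg hgz hgs =>
    h3' g hg (C.commute_t_of_comm (mem_stabilizer_iff.1 hg.2.1) hgz) hgs⟩

/-- What centralizes `z` and normalizes a nonlonely subgroup of it is nonlonely. -/
theorem nonlonely_sup {l : ℕ} [Fact l.Prime] {B : Subgroup G} (hB : IsPGroup l B) (hB1 : B ≠ ⊥)
    (hN : Nonlonely B) {T : Subgroup G} (hBT : B ≤ T) (hTD : T ≤ pairStab (base H) x)
    (hTz : ∀ g ∈ T, Commute g z) (hTs : ∀ g ∈ T, (orderOf g).Coprime s)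
    (hTn : T ≤ normalizer (B : Set G)) : Nonlonely T := by
  have hBt : ∀ g ∈ B, Commute g t := fun g hg =>
    C.commute_t_of_comm (mem_stabilizer_iff.1 (hTD (hBT hg)).1) (hTz g (hBT hg))
  obtain ⟨-, -, h3⟩ := C.galois_at hB hB1 hN (hBT.trans hTD) hBt (R' := zpowers z)
    (zpowers_le.2 C.z_mem) (mem_zpowers z) (zpowers_le.2 (centralizer_le_normalizer _
      (mem_centralizer_iff.2 fun g hg => (hTz g (hBT hg)).eq)))
  obtain ⟨u, v, hu, hv, huv, hc, huB, hvB, hub, hvb⟩ := C.setting.exists_two_at hN C.t_order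
    (mem_centralizer_iff.2 fun g hg => (hBt g hg).eq) C.t_base
  exact nonlonely_iff.2 ⟨u, v, hu, hv, huv, hc,
    mem_centralizer_iff.2 fun g hg =>
      (h3 g ⟨hTn hg, hTD hg⟩ (hTz g hg) (hTs g hg) u hu huB hub).eq,
    mem_centralizer_iff.2 fun g hg =>
      (h3 g ⟨hTn hg, hTD hg⟩ (hTz g hg) (hTs g hg) v hv hvB hvb).eq⟩

/-- The part of the complement centralizing `z` is nonlonely or has a derived group of order prime
to any prime dividing `m`. -/
theorem nonlonely_or_commutator {K : Subgroup G} (hK : K ≤ L ⊓ pairStab (base H) x)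
    (hKs : ¬ s ∣ Nat.card K) {p : ℕ} [Fact p.Prime] (hpm : p ∣ numInv H) :
    Nonlonely (K ⊓ centralizer (zpowers z : Set G)) ∨
      ¬ p ∣ Nat.card (⁅K ⊓ centralizer (zpowers z : Set G),
        K ⊓ centralizer (zpowers z : Set G)⁆ : Subgroup G) := by
  haveI := C.fact
  set K0 := K ⊓ centralizer (zpowers z : Set G) with hK0
  refine or_iff_not_imp_left.2 fun hno => ?_
  have hK0D : K0 ≤ pairStab (base H) x := inf_le_left.trans (hK.trans inf_le_right)
  have hK0z : ∀ g ∈ K0, Commute g z := fun g hg => mem_centralizer_zpowers.1 hg.2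
  have hK0s : ∀ g ∈ K0, (orderOf g).Coprime s := fun g hg =>
    ((C.prime.coprime_iff_not_dvd).2 fun hd =>
      hKs (hd.trans (Subgroup.orderOf_dvd_natCard _ hg.1))).symm
  have hodd : Odd (Nat.card K0) :=
    (odd_pairStab C.setting.se C.ne.symm).of_dvd_nat (card_dvd_of_le hK0D)
  have key : ∀ l : ℕ, l.Prime → CfsgLib.CFun.core K0 l ≠ ⊥ →
      ¬ l ∣ numInv H ∧ IsCyclic (CfsgLib.CFun.core K0 l) := by
    intro l hl hne
    haveI := Fact.mk hl
    set B := CfsgLib.CFun.core K0 l with hBdef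
    have hBp : IsPGroup l B := CfsgLib.CFun.isPGroup_core
    have hBK : B ≤ K0 := CfsgLib.CFun.core_le
    have hBno : ¬ Nonlonely B := fun hN => hno
      (C.nonlonely_sup hBp hne hN hBK hK0D hK0z hK0s CfsgLib.CFun.le_normalizer_core)
    have hlm : ¬ l ∣ numInv H := fun hd => hBno (C.nonlonely_of_pi hd hBp (hBK.trans hK0D)
      fun g hg => C.commute_t_of_comm (mem_stabilizer_iff.1 (hK0D (hBK hg)).1) (hK0z g (hBK hg)))
    refine ⟨hlm, by_contra fun hnc => ?_⟩
    have hl2 : l ≠ 2 := by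
      rintro rfl
      have h2 : Odd (Nat.card B) := hodd.of_dvd_nat (card_dvd_of_le hBK)
      exact hne (Subgroup.card_eq_one.1 ((hBp.card_eq_or_dvd).resolve_right
        fun hd => absurd (h2.of_dvd_nat hd) (by decide)))
    obtain ⟨E2, -, hE2n, ⟨hE2c, hE2e⟩, hE2card⟩ := CfsgLib.PGroup.exists_normal_rank_two hBp hl2
      (⊤ : Subgroup B) (fun hc => hnc (Subgroup.topEquiv.isCyclic.1 hc))
    set W := E2.map B.subtype with hW
    haveI : IsMulCommutative W := by
      haveI := hE2c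
      exact Subgroup.map_isMulCommutative E2 B.subtype
    have hWB : W ≤ B := map_subtype_le _
    have hexp : ∀ w ∈ W, w ^ l = 1 := by
      rintro _ ⟨w, hw, rfl⟩
      rw [← map_pow, hE2e w hw, map_one]
    obtain ⟨w, hw, hw1, hwN⟩ := C.setting.exists_nonlonely_line C.ne.symm hlm
      (W := W) (hWB.trans (hBK.trans hK0D)) hexp
      (by rw [hW, card_map_of_injective B.subtype_injective, hE2card])
    have hWK : W ≤ K0 := hWB.trans hBK
    have hwp : IsPGroup l (zpowers w) := hBp.to_le (zpowers_le.2 (hWB hw))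
    have hWN : Nonlonely W := C.nonlonely_sup hwp (zpowers_ne_bot.2 hw1) hwN (zpowers_le.2 hw)
      (hWK.trans hK0D) (fun g hg => hK0z g (hWK hg)) (fun g hg => hK0s g (hWK hg))
      (fun g hg => centralizer_le_normalizer _ (mem_centralizer_zpowers.2
        (congrArg Subtype.val (mul_comm' (⟨g, hg⟩ : W) ⟨w, hw⟩))))
    have hW1 : W ≠ ⊥ := fun e => hw1 (mem_bot.1 (e ▸ hw))
    have hBn : B ≤ normalizer (W : Set G) := fun g hg =>
      le_normalizer_map B.subtype ⟨⟨g, hg⟩, (normalizer_eq_top E2).symm ▸ mem_top _, rfl⟩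
    exact hBno (C.nonlonely_sup (hBp.to_le hWB) hW1 hWN hWB (hBK.trans hK0D)
      (fun g hg => hK0z g (hBK hg)) (fun g hg => hK0s g (hBK hg)) hBn)
  refine not_dvd_commutator_of_cyclic_cores
    (CfsgLib.Bender.isSolvable_of_odd_card hodd) (fun l hl => ?_)
    (by_contra fun hne => (key p Fact.out hne).1 hpm)
  by_cases hne : CfsgLib.CFun.core K0 l = ⊥
  · rw [hne]; exact isCyclic_of_subsingleton
  · exact (key l hl hne).2

/-- A Sylow subgroup of the part commuting with `z` for a prime of `m`, normalized by `R`. -/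
theorem exists_pi_sylow {K : Subgroup G} (hK : K ≤ L ⊓ pairStab (base H) x)
    (hKs : ¬ s ∣ Nat.card K)
    (hKn : pairStab (base H) x ≤ normalizer (K : Set G)) {p : ℕ} [hp : Fact p.Prime]
    {a : G} (ha : a ∈ K) (hap : orderOf a = p) (haz : Commute a z) :
    ∃ A : Subgroup G, IsSylowIn p A (K ⊓ centralizer (zpowers z : Set G)) ∧ A ≠ ⊥ ∧
      R ≤ normalizer (A : Set G) := by
  haveI := C.fact
  set K0 := K ⊓ centralizer (zpowers z : Set G) with hK0
  have hRn : R ≤ normalizer (K0 : Set G) := fun r hr => mem_normalizer_iff.2 fun g => by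
    have h1 := mem_normalizer_iff.1 (hKn (C.sylow.1 hr).2) g
    have h2 := mem_normalizer_iff.1 (CfsgLib.Coprime.normalizer_le_normalizer_centralizer
      (zpowers z) (centralizer_le_normalizer _ (mem_centralizer_zpowers.2
        (C.commute_R hr C.z_mem)))) g
    exact ⟨fun h => ⟨h1.1 h.1, h2.1 h.2⟩, fun h => ⟨h1.2 h.1, h2.2 h.2⟩⟩
  have hcop : (Nat.card R).Coprime (Nat.card K0) := by
    rw [C.sylow.2]
    exact Nat.Coprime.pow_left _ (C.prime.coprime_iff_not_dvd.2
      fun hd => hKs (hd.trans (card_dvd_of_le inf_le_left)))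
  haveI := C.cyclic
  obtain ⟨A, hA, hAn⟩ := CfsgLib.Coprime.exists_invariant_sylow hRn hcop
    (Or.inl (CfsgLib.Coprime.isSolvable_of_isMulCommutative IsCyclic.isMulCommutative)) p
  refine ⟨A, hA, fun e => ?_, hAn⟩
  have h1 := hA.2
  rw [e, card_bot] at h1
  have h2 : p ∣ Nat.card K0 :=
    hap ▸ Subgroup.orderOf_dvd_natCard K0 ⟨ha, mem_centralizer_zpowers.2 haz⟩
  have h3 := hp.out.factorization_pos_of_dvd Nat.card_pos.ne' h2
  rcases Nat.pow_eq_one.1 h1.symm with h4 | h4
  · exact hp.out.ne_one h4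
  · omega

/-- `p` divides `2 ^ s - 1`. -/
theorem lt_of_pi_sylow {K : Subgroup G} (hK : K ≤ L ⊓ pairStab (base H) x)
    (hKs : ¬ s ∣ Nat.card K)
    (hKmem : ∀ g ∈ L ⊓ pairStab (base H) x, ¬ s ∣ orderOf g → g ∈ K)
    (hKn : pairStab (base H) x ≤ normalizer (K : Set G))
    (hKR : L ⊓ pairStab (base H) x ≤ K ⊔ R) {p : ℕ} [hp : Fact p.Prime] (hpm : p ∣ numInv H)
    {A : Subgroup G} (hA : IsSylowIn p A (K ⊓ centralizer (zpowers z : Set G))) (hA1 : A ≠ ⊥) :
    s < p := by
  haveI := C.fact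
  set D := pairStab (base H) x with hD
  set K1 := K ⊓ centralizer ({t} : Set G) with hK1
  have hKD : K ≤ D := hK.trans inf_le_right
  have hzt : Commute z t := C.t_comm.symm
  have hzn : zpowers z ≤ normalizer (K1 : Set G) := zpowers_le.2 (mem_normalizer_iff.2 fun g => by
    have h1 := mem_normalizer_iff.1 (hKn C.z_memE.2) g
    have h2 := mem_normalizer_iff.1 (le_normalizer (show z ∈ centralizer ({t} : Set G) from
      mem_centralizer_singleton_iff.2 hzt.eq)) g
    exact ⟨fun h => ⟨h1.1 h.1, h2.1 h.2⟩, fun h => ⟨h1.2 h.1, h2.2 h.2⟩⟩)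
  have hcop : (Nat.card (zpowers z)).Coprime (Nat.card K1) := by
    rw [Nat.card_zpowers, C.z_order]
    exact C.prime.coprime_iff_not_dvd.2 fun hd => hKs (hd.trans (card_dvd_of_le inf_le_left))
  have hAK1 : A ≤ K1 := fun g hg => ⟨(hA.1 hg).1, mem_centralizer_singleton_iff.2
    (C.commute_t_of_comm (mem_stabilizer_iff.1 (hKD (hA.1 hg).1).1)
      (mem_centralizer_zpowers.1 (hA.1 hg).2)).eq⟩
  have hzA : zpowers z ≤ normalizer (A : Set G) := zpowers_le.2 (centralizer_le_normalizer _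
    (mem_centralizer_iff.2 fun g hg => (mem_centralizer_zpowers.1 (hA.1 hg).2).eq))
  obtain ⟨P1, hP1, hAP1, hzP1⟩ := CfsgLib.Coprime.le_invariant_sylow hzn hcop
    (Or.inl (CfsgLib.Coprime.isSolvable_of_isMulCommutative IsCyclic.isMulCommutative))
    hAK1 hA.isPGroup hzA
  have hP1D : P1 ≤ D := hP1.1.trans (inf_le_left.trans hKD)
  have hP1t : ∀ g ∈ P1, Commute g t := fun g hg => mem_centralizer_singleton_iff.1 (hP1.1 hg).2
  have hP11 : P1 ≠ ⊥ := fun e => hA1 (le_bot_iff.1 (e ▸ hAP1))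
  have hN : Nonlonely P1 := C.nonlonely_of_pi hpm hP1.isPGroup hP1D hP1t
  obtain ⟨-, hcount, -⟩ := C.galois_at hP1.isPGroup hP11 hN hP1D hP1t
    (zpowers_le.2 C.z_mem) (mem_zpowers z) hzP1
  -- `P1` is not a Sylow subgroup of `L ⊓ D`
  set E := L ⊓ D with hE
  have hnot : ¬ IsSylowIn p P1 E := by
    intro hS
    have hm : (centralizer ({t} : Set G)).relIndex E = numInv H := by
      rw [numInv]
      refine relIndex_eq_card ⟨C.t_order, C.t_mem⟩ (fun d hd => ⟨CfsgLib.Invol.invol_conj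
        C.t_order d, ?_⟩) fun v hv => ?_
      · exact H.mul_mem (H.mul_mem (C.layer.le hd.1) C.t_mem) (H.inv_mem (C.layer.le hd.1))
      · obtain ⟨k, hk, hkv⟩ := C.exists_trans hKR hKn hK hv.1 (smul_base.2 hv.2)
        exact ⟨k, hK hk, hkv⟩
    have hle : P1 ≤ centralizer ({t} : Set G) ⊓ E := fun g hg =>
      ⟨(hP1.1 hg).2, hK (hP1.1 hg).1⟩
    have h1 := relIndex_mul_card_inf (centralizer ({t} : Set G)) E
    rw [hm] at h1
    obtain ⟨q, hq⟩ := card_dvd_of_le hle
    obtain ⟨m', hm'⟩ := hpm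
    have h2 : Nat.card P1 * p ∣ Nat.card E := ⟨m' * q, by rw [← h1, hq, hm']; ring⟩
    rw [hS.2, ← pow_succ, hp.out.pow_dvd_iff_le_factorization Nat.card_pos.ne'] at h2
    omega
  obtain ⟨Q, hQ, hP1Q⟩ := exists_sylowIn_ge (K := E) hP1.isPGroup
    (hP1.1.trans (inf_le_left.trans hK))
  have hQP : ¬ Q ≤ P1 := fun hle => hnot (le_antisymm hle hP1Q ▸ hQ)
  obtain ⟨g, hgQ, hgN, hgP⟩ := CfsgLib.Invol.exists_mem_normalizer_notMem hQ.isPGroup hP1Q hQP
  -- the elements normalizing `P1` are transitive on its involutions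
  set M1 := normalizer (P1 : Set G) ⊓ D with hM1
  have hb : base H ∈ fixSet P1 H := hP1D.trans inf_le_left
  have hx : x ∈ fixSet P1 H := hP1D.trans inf_le_right
  have h3 := three_of_nonlonely C.setting.se hP1D C.ne.symm hN
  obtain ⟨P, hP⟩ := C.setting.exists_localData hP1.isPGroup hP11 hN hb h3
  have htP : t ∈ centralizer (P1 : Set G) := mem_centralizer_iff.2 fun k hk => (hP1t k hk).eq
  have hidx : (centralizer ({t} : Set G)).relIndex M1 = 2 ^ s - 1 := by
    rw [← hcount]
    refine relIndex_eq_card ⟨C.t_order, htP, C.t_base⟩ (fun d hd => ⟨CfsgLib.Invol.invol_conj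
      C.t_order d, (mem_normalizer_iff.1
        (CfsgLib.Coprime.normalizer_le_normalizer_centralizer _ hd.1) t).1 htP, ?_⟩) fun v hv => ?_
    · rw [mul_smul, mul_smul, mem_stabilizer_iff.1 (inv_mem hd.2.1), C.t_base,
        mem_stabilizer_iff.1 hd.2.1]
    · obtain ⟨d, hdA, hd, hdt⟩ := hP.exists_conj_invol C.setting hx C.ne h3 hP1.isPGroup hb
        C.t_order htP C.t_base hv.1 hv.2.1 hv.2.2
      exact ⟨d, ⟨centralizer_le_normalizer _ hdA, hd⟩, hdt⟩
  refine lt_of_dvd_two_pow_sub_one (p := p) C.prime (hidx ▸ ?_)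
  by_contra hndvd
  set Mt := centralizer ({t} : Set G) ⊓ M1 with hMt
  obtain ⟨S, hS, -⟩ := exists_sylowIn_ge (K := Mt) (P := ⊥) (IsPGroup.of_bot (p := p)) bot_le
  have hSM : IsSylowIn p S M1 := by
    refine ⟨hS.1.trans inf_le_right, ?_⟩
    rw [hS.2, ← relIndex_mul_card_inf (centralizer ({t} : Set G)) M1,
      Nat.factorization_mul (relIndex_pos _ _).ne' Nat.card_pos.ne', Finsupp.add_apply,
      Nat.factorization_eq_zero_of_not_dvd hndvd, zero_add]
  set Q1 := P1 ⊔ zpowers g with hQ1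
  have hQ1Q : Q1 ≤ Q := sup_le hP1Q (zpowers_le.2 hgQ)
  have hQ1M : Q1 ≤ M1 := sup_le (le_inf le_normalizer hP1D) (zpowers_le.2 ⟨hgN, (hQ.1 hgQ).2⟩)
  obtain ⟨d, hd, hle⟩ := exists_conjBy_le (hQ.isPGroup.to_le hQ1Q) hQ1M hSM
  have hQ1K : conjBy d Q1 ≤ K1 := by
    intro k hk
    refine ⟨?_, (hS.1 (hle hk)).1⟩
    rw [CfsgLib.Coprime.mem_conjBy] at hk
    have hmem : d⁻¹ * k * d ∈ E := hQ.1 (hQ1Q hk)
    have hkK : d⁻¹ * k * d ∈ K := hKmem _ hmem (fun hdv => by
      obtain ⟨i, hi⟩ := (hQ.isPGroup.to_le hQ1Q) ⟨_, hk⟩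
      have h5 : s ∣ p ^ i := hdv.trans (orderOf_dvd_of_pow_eq_one (congrArg Subtype.val hi))
      exact C.not_dvd ((Nat.prime_dvd_prime_iff_eq C.prime hp.out).1
        (C.prime.dvd_of_dvd_pow h5) ▸ hpm))
    have := (mem_normalizer_iff.1 (hKn hd.2) _).1 hkK
    simpa [mul_assoc] using this
  have h4 := isPGroup_card_le ((hQ.isPGroup.to_le hQ1Q).map _) hQ1K
  rw [CfsgLib.Coprime.card_conjBy, rPart, ← hP1.2] at h4
  exact hgP (eq_of_le_of_card_ge le_sup_left h4 ▸ mem_sup_right (mem_zpowers g))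

end Cyc

end CfsgLib.Bender.Full
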