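import Cfsg.Agent.Lib.Bender.Full.Cyclic.Setup
import Cfsg.Agent.Lib.CFun.OddCores
import Mathlib.FieldTheory.Finite.Basic

/-!
# Pure lemmas for the cyclic case
-/

set_option autoImplicit false
set_option linter.style.haveILetI false
set_option linter.unusedSectionVars false

namespace CfsgLib.Bender.Full

open Subgroup
open scoped commutatorElement
open CfsgLib.Coprime (IsSylowIn)

universe u

variable {G : Type u} [Group G] [Finite G]

/-- Commutators centralize a normalized cyclic subgroup. -/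
theorem commutator_le_centralizer_of_cyclic {K C : Subgroup G} (hn : K ≤ normalizer (C : Set G))
    [IsCyclic C] : ⁅K, K⁆ ≤ centralizer (C : Set G) := by
  have key : ∀ a ∈ K, ∃ i : ℤ, ∀ x ∈ C, a * x * a⁻¹ = x ^ i := by
    intro a ha
    obtain ⟨i, hi⟩ := MonoidHom.map_cyclic (C.normalizerMonoidHom ⟨a, hn ha⟩).toMonoidHom
    exact ⟨i, fun x hx => congrArg Subtype.val (hi ⟨x, hx⟩)⟩
  rw [commutator_le]
  intro a ha b hb
  refine mem_centralizer_iff.2 fun x hx => ?_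
  obtain ⟨i, hi⟩ := key a ha
  obtain ⟨j, hj⟩ := key b hb
  obtain ⟨i', hi'⟩ := key a⁻¹ (inv_mem ha)
  obtain ⟨j', hj'⟩ := key b⁻¹ (inv_mem hb)
  have hm : ∀ k : ℤ, x ^ k ∈ C := fun k => zpow_mem hx k
  have e : ⁅a, b⁆ * x * ⁅a, b⁆⁻¹ = x := by
    have h1 : ∀ y ∈ C, a⁻¹ * y * a = y ^ i' := fun y hy => by simpa using hi' y hy
    have h2 : ∀ y ∈ C, b⁻¹ * y * b = y ^ j' := fun y hy => by simpa using hj' y hy
    have e1 : x ^ (i * i') = x := by
      rw [mul_comm, zpow_mul, ← hi _ (hm i'), ← h1 x hx]; group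
    have e2 : x ^ (j * j') = x := by
      rw [mul_comm, zpow_mul, ← hj _ (hm j'), ← h2 x hx]; group
    calc ⁅a, b⁆ * x * ⁅a, b⁆⁻¹ = a * (b * (a⁻¹ * (b⁻¹ * x * b) * a) * b⁻¹) * a⁻¹ := by
          rw [commutatorElement_def]; group
      _ = (((x ^ j') ^ i') ^ j) ^ i := by
          rw [h2 x hx, h1 _ (hm j'), hj _ (zpow_mem (hm j') i'),
            hi _ (zpow_mem (zpow_mem (hm j') i') j)]
      _ = x ^ ((j * j') * (i * i')) := by
          rw [← zpow_mul, ← zpow_mul, ← zpow_mul]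
          congr 1
          ring
      _ = x := by rw [zpow_mul, e2, e1]
  exact (mul_inv_eq_iff_eq_mul.1 e).symm

/-- A solvable group with cyclic cores and trivial `p`-core has a derived group of order prime to
`p`. -/
theorem not_dvd_commutator_of_cyclic_cores {K : Subgroup G} (hs : Group.IsSolvable K) {p : ℕ}
    [Fact p.Prime] (hcyc : ∀ l : ℕ, l.Prime → IsCyclic (CfsgLib.CFun.core K l))
    (hp0 : CfsgLib.CFun.core K p = ⊥) : ¬ p ∣ Nat.card (⁅K, K⁆ : Subgroup G) := by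
  haveI := hs
  have h1 : Cfsg.fittingOf K ≤ centralizer ((⁅K, K⁆ : Subgroup G) : Set G) :=
    CfsgLib.CFun.fittingOf_le_of_cores fun l hl => by
      haveI := hcyc l hl
      exact le_centralizer_iff.1
        (commutator_le_centralizer_of_cyclic CfsgLib.CFun.le_normalizer_core)
  have h2 : ⁅K, K⁆ ≤ Cfsg.fittingOf K := le_trans
    (le_inf (commutator_le.2 fun a ha b hb => by
      rw [commutatorElement_def]
      exact K.mul_mem (K.mul_mem (K.mul_mem ha hb) (K.inv_mem ha)) (K.inv_mem hb))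
      (le_centralizer_iff.1 h1)) CfsgLib.CFun.centralizer_fittingOf_le
  intro hd
  exact CfsgLib.CFun.core_ne_bot_of_dvd (hd.trans (card_dvd_of_le h2)) hp0

/-- Burnside: a Sylow subgroup central in its normalizer survives modulo `qKer`. -/
theorem not_le_qKer_of_central {q : ℕ} [Fact q.Prime] {R L : Subgroup G} (hR : IsSylowIn q R L)
    (hN : ∀ n ∈ L, n ∈ normalizer (R : Set G) → ∀ r ∈ R, Commute n r) (hne : R ≠ ⊥) :
    ¬ R ≤ qKer q L := by
  obtain ⟨N, -, -, hmem, hder, -, hdisj⟩ := exists_complement_of_central hR hN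
  intro hle
  have h1 : qKer q L ≤ N := sup_le hder ((closure_le _).2 fun g hg => hmem g hg.1 hg.2)
  exact hne (hdisj (hle.trans h1) le_rfl |> le_bot_iff.1)

/-- A prime divisor of `2 ^ s - 1` is larger than the prime `s`. -/
theorem lt_of_dvd_two_pow_sub_one {p s : ℕ} [hp : Fact p.Prime] (hs : s.Prime)
    (h : p ∣ 2 ^ s - 1) : s < p := by
  have h1 : (2 : ZMod p) ^ s = 1 := by
    have h2 : ((2 ^ s - 1 : ℕ) : ZMod p) = 0 := (ZMod.natCast_eq_zero_iff _ _).2 h
    rw [Nat.cast_sub Nat.one_le_two_pow, Nat.cast_pow, sub_eq_zero, Nat.cast_one] at h2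
    exact_mod_cast h2
  have h20 : (2 : ZMod p) ≠ 0 := fun e => by
    rw [e, zero_pow hs.ne_zero] at h1
    exact zero_ne_one h1
  rcases (Nat.dvd_prime hs).1 (orderOf_dvd_of_pow_eq_one h1) with h3 | h3
  · exfalso
    rw [orderOf_eq_one_iff] at h3
    have h4 : (1 : ZMod p) = 0 := by linear_combination h3
    exact one_ne_zero h4
  · have h4 : s ∣ p - 1 := h3 ▸ ZMod.orderOf_dvd_card_sub_one h20
    have h5 := Nat.le_of_dvd (Nat.sub_pos_of_lt hp.out.one_lt) h4
    have := hp.out.one_lt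
    omega

/-- A `p`-group, `p > s`, acting on an `s`-group `S` with a central line `⟨z⟩` that it centralizes and
without a second line modulo `⟨z⟩`, centralizes an element outside `⟨z⟩`. -/
theorem exists_commute_outside {p s : ℕ} [hp : Fact p.Prime] [hs : Fact s.Prime] (hsp : s < p)
    {A S : Subgroup G} (hA : IsPGroup p A) (hS : IsPGroup s S)
    (hAS : A ≤ normalizer (S : Set G)) {z : G} (hzo : orderOf z = s) (hzS : z ∈ S)
    (hzc : ∀ g ∈ S, Commute g z) (hzA : ∀ a ∈ A, Commute a z) (hne : ¬ S ≤ zpowers z)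
    (hpair : ∀ c ∈ S, ∀ y ∈ S, c ^ s ∈ zpowers z → y ^ s ∈ zpowers z → ⁅c, y⁆ ∈ zpowers z →
      c ∉ zpowers z → y ∈ zpowers z ⊔ zpowers c) :
    ∃ g ∈ S, g ∉ zpowers z ∧ ∀ a ∈ A, Commute a g := by
  set Z := (zpowers z).subgroupOf S with hZ
  have hcomm : ∀ g ∈ S, ∀ w ∈ zpowers z, Commute g w := fun g hg w hw => by
    obtain ⟨k, rfl⟩ := hw
    exact (hzc g hg).zpow_right k
  haveI : Z.Normal := ⟨fun n hn g => mem_subgroupOf.2 (by
    rw [coe_mul, coe_mul, coe_inv, (hcomm g g.2 n (mem_subgroupOf.1 hn)).eq, mul_inv_cancel_right]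
    exact mem_subgroupOf.1 hn)⟩
  have hQ : IsPGroup s (S ⧸ Z) := hS.to_quotient Z
  haveI : Nontrivial (S ⧸ Z) := by
    obtain ⟨g, hg, hgz⟩ := SetLike.not_le_iff_exists.1 hne
    exact ⟨⟨QuotientGroup.mk (⟨g, hg⟩ : S), 1, fun e =>
      hgz (mem_subgroupOf.1 ((QuotientGroup.eq_one_iff (N := Z) (⟨g, hg⟩ : S)).1 e))⟩⟩
  haveI := hQ.center_nontrivial
  obtain ⟨cb, hcb⟩ := exists_prime_orderOf_dvd_card' (G := center (S ⧸ Z)) s
    ((hQ.to_subgroup (center _)).card_eq_or_dvd.resolve_left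
      (Finite.one_lt_card (α := center (S ⧸ Z))).ne')
  obtain ⟨⟨c, hc⟩, hcc⟩ := QuotientGroup.mk_surjective (cb : S ⧸ Z)
  have hcs : c ^ s ∈ zpowers z := by
    have h1 : (QuotientGroup.mk ((⟨c, hc⟩ : S) ^ s) : S ⧸ Z) = 1 := by
      rw [QuotientGroup.mk_pow, hcc, ← SubgroupClass.coe_pow, ← hcb, pow_orderOf_eq_one,
        OneMemClass.coe_one]
    exact mem_subgroupOf.1 ((QuotientGroup.eq_one_iff _).1 h1)
  have hcz : c ∉ zpowers z := fun h => by
    have h1 : cb = 1 := Subtype.ext (hcc.symm.trans ((QuotientGroup.eq_one_iff _).2 h))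
    rw [h1, orderOf_one] at hcb
    exact hs.out.ne_one hcb.symm
  have hccen : ∀ y ∈ S, ⁅c, y⁆ ∈ zpowers z := fun y hy => by
    have h1 := mem_center_iff.1 cb.2 (QuotientGroup.mk ⟨y, hy⟩)
    rw [← hcc] at h1
    have h2 : (QuotientGroup.mk ⁅(⟨c, hc⟩ : S), ⟨y, hy⟩⁆ : S ⧸ Z) = 1 := by
      rw [commutatorElement_def, QuotientGroup.mk_mul, QuotientGroup.mk_mul, QuotientGroup.mk_mul,
        ← h1, QuotientGroup.mk_inv, QuotientGroup.mk_inv, mul_inv_cancel_right, mul_inv_cancel]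
    exact mem_subgroupOf.1 ((QuotientGroup.eq_one_iff _).1 h2)
  refine ⟨c, hc, hcz, fun a ha => ?_⟩
  have hyS : a * c * a⁻¹ ∈ S := (mem_normalizer_iff.1 (hAS ha) c).1 hc
  have hys : (a * c * a⁻¹) ^ s ∈ zpowers z := by
    obtain ⟨k, hk⟩ := hcs
    rw [conj_pow, ← hk, ((hzA a ha).zpow_right k).eq, mul_inv_cancel_right]
    exact ⟨k, rfl⟩
  obtain ⟨w, hw, v, hv, hwv⟩ := CfsgLib.Coprime.mem_sup_exists
    (zpowers_le.2 (centralizer_le_normalizer _ (mem_centralizer_zpowers.2 (hzc c hc))) :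
      zpowers c ≤ normalizer (zpowers z : Set G))
    (hpair c hc _ hyS hcs hys (hccen _ hyS) hcz)
  obtain ⟨i, rfl⟩ := hv
  replace hwv : w * c ^ i = a * c * a⁻¹ := hwv
  obtain ⟨n, hn⟩ : ∃ n : ℕ, a ^ p ^ n = 1 := by
    obtain ⟨n, hn⟩ := hA ⟨a, ha⟩
    exact ⟨n, congrArg Subtype.val hn⟩
  -- `a` fixes `⟨z⟩` and acts as `c ↦ c ^ i` modulo it
  have hiter : ∀ m : ℕ, (a ^ m * c * (a ^ m)⁻¹) * (c ^ (i ^ m))⁻¹ ∈ zpowers z := by
    intro m
    induction m with
    | zero => simp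
    | succ m ih =>
      have hwa : Commute a w := by
        obtain ⟨k, rfl⟩ := hw
        exact (hzA a ha).zpow_right k
      obtain ⟨u, hu, hu'⟩ : ∃ u ∈ zpowers z, a ^ m * c * (a ^ m)⁻¹ = u * c ^ (i ^ m) :=
        ⟨_, ih, by rw [inv_mul_cancel_right]⟩
      have hua : a * u * a⁻¹ = u := by
        obtain ⟨k, rfl⟩ := hu
        rw [((hzA a ha).zpow_right k).eq, mul_inv_cancel_right]
      have e : a ^ (m + 1) * c * (a ^ (m + 1))⁻¹ = u * (w * c ^ i) ^ (i ^ m) := by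
        rw [pow_succ', show a * a ^ m * c * (a * a ^ m)⁻¹ = a * (a ^ m * c * (a ^ m)⁻¹) * a⁻¹ by
          group, hu', hwv, conj_zpow,
          show a * (u * c ^ i ^ m) * a⁻¹ = (a * u * a⁻¹) * (a * c ^ i ^ m * a⁻¹) by group, hua]
      rw [e, ((hcomm c hc w hw).symm.zpow_right i).mul_zpow, ← zpow_mul, ← pow_succ',
        show u * (w ^ i ^ m * c ^ i ^ (m + 1)) * (c ^ i ^ (m + 1))⁻¹ = u * w ^ i ^ m by group]
      exact mul_mem hu (zpow_mem hw _)
  have hi : (s : ℤ) ∣ i - 1 := by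
    have h1 := hiter (p ^ n)
    rw [hn, one_mul, inv_one, mul_one] at h1
    have h2 : c ^ (1 - i ^ p ^ n) ∈ zpowers z := by rwa [zpow_sub, zpow_one]
    have h3 : (s : ℤ) ∣ 1 - i ^ p ^ n := by
      by_contra hnd
      obtain ⟨α, β, hab⟩ := ((Nat.prime_iff_prime_int.1 hs.out).coprime_iff_not_dvd.2 hnd)
      refine hcz ?_
      rw [← zpow_one c, ← hab, zpow_add, mul_comm α, zpow_mul, zpow_natCast, mul_comm β, zpow_mul]
      exact mul_mem (zpow_mem hcs α) (zpow_mem h2 β)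
    have h4 : ((i : ZMod s)) ^ p ^ n = 1 := by
      have := (ZMod.intCast_zmod_eq_zero_iff_dvd _ _).2 h3
      push_cast at this
      exact (sub_eq_zero.1 this).symm
    have h5 : (i : ZMod s) ≠ 0 := fun e => by
      rw [e, zero_pow (pow_ne_zero _ hp.out.ne_zero)] at h4
      exact zero_ne_one h4
    have h6 : orderOf (i : ZMod s) = 1 := by
      refine Nat.eq_one_of_dvd_coprimes ?_ (orderOf_dvd_of_pow_eq_one h4)
        (ZMod.orderOf_dvd_card_sub_one h5)
      refine Nat.Coprime.pow_left n ((Nat.Prime.coprime_iff_not_dvd hp.out).2 fun hd => ?_)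
      have := Nat.le_of_dvd (Nat.sub_pos_of_lt hs.out.one_lt) hd
      omega
    rw [← ZMod.intCast_zmod_eq_zero_iff_dvd]
    push_cast
    rw [orderOf_eq_one_iff.1 h6, sub_self]
  -- so `a` multiplies `c` by an element of `⟨z⟩`, which is `1`
  obtain ⟨q, hq⟩ := hi
  set u := w * c ^ (i - 1) with hu_def
  have hu : u ∈ zpowers z := by
    rw [hu_def, hq, zpow_mul, zpow_natCast]
    exact mul_mem hw (zpow_mem hcs q)
  have hac : a * c * a⁻¹ = u * c := by
    rw [← hwv, hu_def, mul_assoc, ← zpow_add_one, sub_add_cancel]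
  have hau : Commute a u := by
    obtain ⟨k, hk⟩ := hu
    rw [← hk]
    exact (hzA a ha).zpow_right k
  have hit : ∀ m : ℕ, a ^ m * c * (a ^ m)⁻¹ = u ^ m * c := by
    intro m
    induction m with
    | zero => simp
    | succ m ih =>
      rw [pow_succ', show a * a ^ m * c * (a * a ^ m)⁻¹ = a * (a ^ m * c * (a ^ m)⁻¹) * a⁻¹ by
        group, ih, show a * (u ^ m * c) * a⁻¹ = (a * u ^ m * a⁻¹) * (a * c * a⁻¹) by group,
        (hau.pow_right m).eq, mul_inv_cancel_right, hac, pow_succ, ← mul_assoc]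
  have h1 : u ^ p ^ n = 1 := by
    have := hit (p ^ n)
    rw [hn, one_mul, inv_one, mul_one] at this
    exact right_eq_mul.1 this
  have hu1 : u = 1 := orderOf_eq_one_iff.1 (by
    refine Nat.eq_one_of_dvd_coprimes ?_ (orderOf_dvd_of_pow_eq_one h1)
      (hzo ▸ Nat.card_zpowers z ▸ orderOf_dvd_natCard _ hu)
    exact Nat.Coprime.pow_left n ((Nat.coprime_primes hp.out hs.out).2 hsp.ne'))
  rw [hu1, one_mul] at hac
  exact mul_inv_eq_iff_eq_mul.1 hac

end CfsgLib.Bender.Full
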