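import Cfsg.Agent.Lib.Bender.Full.Descent
import Mathlib.GroupTheory.Transfer

/-!
# A cyclic Sylow subgroup with a lonely line

`Cyc`: `R` is a cyclic Sylow `s`-subgroup of `L ⊓ D` not consisting of commutators, `z` in `R` of
order `s` is lonely and `t` is the involution at the base point commuting with it.  `L ⊓ D` has a
normal `s`-complement, nothing in it moves `R`, and the normalizer of `⟨z⟩` in `D` centralizes `t`.
-/

set_option autoImplicit false
set_option linter.style.haveILetI false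
set_option linter.unusedSectionVars false

namespace CfsgLib.Bender.Full

open Subgroup MulAction
open scoped commutatorElement
open CfsgLib.Coprime (IsSylowIn conjBy)
open CfsgLib.Invol (fixed_unique invol_conj)

universe u

variable {G : Type u} [Group G] [Finite G] {H : Subgroup G}

/-- A Sylow subgroup central in its normalizer inside `K` has a complement there. -/
theorem exists_complement_of_central {p : ℕ} [hp : Fact p.Prime] {R K : Subgroup G}
    (hR : IsSylowIn p R K)
    (hN : ∀ n ∈ K, n ∈ normalizer (R : Set G) → ∀ r ∈ R, Commute n r) :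
    ∃ N : Subgroup G, N ≤ K ∧ ¬ p ∣ Nat.card N ∧ (∀ g ∈ K, ¬ p ∣ orderOf g → g ∈ N) ∧
      ⁅K, K⁆ ≤ N ∧ K ≤ N ⊔ R ∧ Disjoint N R := by
  set S := hR.toSylow with hS
  have hSR : ∀ x : K, x ∈ (S : Subgroup K) ↔ (x : G) ∈ R := fun x => by
    rw [← hR.map_toSylow]
    exact ⟨fun hx => ⟨x, hx, rfl⟩, fun ⟨y, hy, e⟩ => Subtype.ext e ▸ hy⟩
  have hS2 : normalizer (S : Set K) ≤ centralizer ((S : Subgroup K) : Set K) := by
    intro n hn
    refine mem_centralizer_iff.2 fun r hr => ?_
    refine Subtype.ext (hN n n.2 (mem_normalizer_iff.2 fun g => ?_) r ((hSR r).1 hr)).eq.symm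
    constructor
    · intro hg
      exact (hSR (n * ⟨g, hR.1 hg⟩ * n⁻¹)).1 ((mem_normalizer_iff.1 hn _).1 ((hSR ⟨g, hR.1 hg⟩).2 hg))
    · intro hg
      have hgK : g ∈ K := by
        have := K.mul_mem (K.mul_mem (K.inv_mem n.2) (hR.1 hg)) n.2
        simpa [mul_assoc] using this
      exact (hSR ⟨g, hgK⟩).1 ((mem_normalizer_iff.1 hn ⟨g, hgK⟩).2 ((hSR _).2 hg))
  have hc : IsMulCommutative S :=
    ⟨⟨fun a b => Subtype.ext (hS2 (le_normalizer b.2) a a.2)⟩⟩
  set f := MonoidHom.transferSylow S hS2 with hf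
  have hcomp := MonoidHom.ker_transferSylow_isComplement' S hS2
  refine ⟨f.ker.map K.subtype, map_subtype_le _, ?_, fun g hg hgp => ?_, ?_, ?_, ?_⟩
  · rw [card_map_of_injective K.subtype_injective]
    exact MonoidHom.not_dvd_card_ker_transferSylow S hS2
  · refine ⟨⟨g, hg⟩, orderOf_eq_one_iff.1 ?_, rfl⟩
    obtain ⟨i, hi⟩ := S.2 (f ⟨g, hg⟩)
    refine Nat.eq_one_of_dvd_coprimes (((Nat.Prime.coprime_iff_not_dvd hp.out).2 hgp).pow_left i)
      (orderOf_dvd_of_pow_eq_one hi) ((orderOf_map_dvd f _).trans (by rw [orderOf_mk]))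
  · rw [← map_subtype_commutator]
    refine map_mono ?_
    rw [_root_.commutator_def, commutator_le]
    intro a _ b _
    rw [MonoidHom.mem_ker, map_commutatorElement, commutatorElement_eq_one_iff_mul_comm]
    exact mul_comm' (f a) (f b)
  · intro g hg
    have h1 : (⟨g, hg⟩ : K) ∈ (⊤ : Subgroup K) := mem_top _
    rw [← hcomp.sup_eq_top] at h1
    have h2 := mem_map_of_mem K.subtype h1
    rwa [Subgroup.map_sup, hR.map_toSylow] at h2
  · rw [disjoint_iff, ← hR.map_toSylow, ← map_inf_eq _ _ _ K.subtype_injective,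
      hcomp.disjoint.eq_bot, Subgroup.map_bot]

/-- The data of the cyclic case. -/
structure Cyc (H : Subgroup G) (x : G ⧸ H) (L R : Subgroup G) (s : ℕ) (z t : G) : Prop where
  setting : Setting H
  ne : x ≠ base H
  layer : Layer H (pairStab (base H) x) L
  prime : s.Prime
  not_dvd : ¬ s ∣ numInv H
  sylow : IsSylowIn s R (L ⊓ pairStab (base H) x)
  cyclic : IsCyclic R
  not_le : ¬ R ≤ ⁅L ⊓ pairStab (base H) x, L ⊓ pairStab (base H) x⁆
  z_mem : z ∈ R
  z_order : orderOf z = s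
  lonely : ¬ Nonlonely (zpowers z)
  t_order : orderOf t = 2
  t_mem : t ∈ H
  t_comm : Commute t z

theorem mem_centralizer_zpowers {g z : G} :
    g ∈ centralizer (zpowers z : Set G) ↔ Commute g z := by
  rw [zpowers_eq_closure, centralizer_closure, mem_centralizer_singleton_iff]
  rfl

/-- A lonely line at a non-divisor of the number of involutions gives the data. -/
theorem exists_cyc (h : Setting H) {x : G ⧸ H} (hx : x ≠ base H) {L : Subgroup G}
    (hL : Layer H (pairStab (base H) x) L) {s : ℕ} [hs : Fact s.Prime] (hsm : ¬ s ∣ numInv H)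
    {R : Subgroup G} (hR : IsSylowIn s R (L ⊓ pairStab (base H) x))
    (hne : ¬ R ≤ ⁅L ⊓ pairStab (base H) x, L ⊓ pairStab (base H) x⁆) (hc : IsCyclic R) {z : G}
    (hz : z ∈ R) (hzo : orderOf z = s) (hlon : ¬ Nonlonely (zpowers z)) :
    ∃ t : G, Cyc H x L R s z t := by
  have hzp : IsPGroup s (zpowers z) := hR.isPGroup.to_le (zpowers_le.2 hz)
  have hzD : zpowers z ≤ pairStab (base H) x := zpowers_le.2 (hR.1 hz).2
  obtain ⟨t, ht, hta, htC⟩ := h.exists_invol_centralizing hzp
    (hzD.trans inf_le_left : base H ∈ fixSet (zpowers z) H) (h.three_of_not_dvd hsm hx.symm hzp hzD)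
  exact ⟨t, h, hx, hL, hs.out, hsm, hR, hc, hne, hz, hzo, hlon, ht, smul_base.1 hta,
    mem_centralizer_zpowers.1 htC⟩

namespace Cyc

variable {x : G ⧸ H} {L R : Subgroup G} {s : ℕ} {z t : G} (C : Cyc H x L R s z t)
include C

theorem fact : Fact s.Prime := ⟨C.prime⟩

theorem z_memE : z ∈ L ⊓ pairStab (base H) x := C.sylow.1 C.z_mem

theorem z_ne : z ≠ 1 := fun e => C.prime.ne_one (by rw [← C.z_order, e, orderOf_one])

theorem t_base : t • base H = base H := smul_base.2 C.t_mem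

theorem one_lt_fix : 2 < (fixSet (zpowers z) H).ncard := by
  haveI := C.fact
  exact C.setting.three_of_not_dvd C.not_dvd C.ne.symm
    (C.sylow.isPGroup.to_le (zpowers_le.2 C.z_mem)) (zpowers_le.2 C.z_memE.2)

/-- Only one involution at the base point commutes with `z`. -/
theorem t_unique {v : G} (hv : orderOf v = 2) (hvb : v • base H = base H) (hvz : Commute v z) :
    v = t := by
  haveI := C.fact
  obtain ⟨u, hu, hux, huC⟩ := C.setting.exists_invol_centralizing
    (C.sylow.isPGroup.to_le (zpowers_le.2 C.z_mem)) (zpowers_le.2 C.z_memE.2.2 : x ∈ fixSet _ H)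
    C.one_lt_fix
  exact C.setting.eq_of_lonely (lonely_of_not_nonlonely C.lonely) hv C.t_order
    (mem_centralizer_zpowers.2 hvz) (mem_centralizer_zpowers.2 C.t_comm) hvb C.t_base hu huC
    fun e => C.ne (fixed_unique C.setting.se hu hux e)

/-- What normalizes `⟨z⟩` and fixes the base point commutes with `t`. -/
theorem commute_t {g : G} (hg : g • base H = base H) (hgz : g ∈ normalizer (zpowers z : Set G)) :
    Commute g t := by
  have h1 : g * t * g⁻¹ ∈ centralizer (zpowers z : Set G) :=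
    (mem_normalizer_iff.1 (CfsgLib.Coprime.normalizer_le_normalizer_centralizer _ hgz) t).1
      (mem_centralizer_zpowers.2 C.t_comm)
  have h2 := C.t_unique (invol_conj C.t_order g)
    (by
      rw [mul_smul, mul_smul, inv_smul_eq_iff.2 hg.symm, C.t_base, hg])
    (mem_centralizer_zpowers.1 h1)
  exact mul_inv_eq_iff_eq_mul.1 h2

theorem commute_t_of_comm {g : G} (hg : g • base H = base H) (hgz : Commute g z) : Commute g t :=
  C.commute_t hg (centralizer_le_normalizer _ (mem_centralizer_zpowers.2 hgz))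

theorem commute_R {r r' : G} (hr : r ∈ R) (hr' : r' ∈ R) : Commute r r' := by
  haveI := C.cyclic
  haveI := IsCyclic.isMulCommutative (α := R)
  exact congrArg Subtype.val (mul_comm' (⟨r, hr⟩ : R) ⟨r', hr'⟩)

/-- `⟨z⟩` is the only subgroup of order `s` of `R`. -/
theorem mem_zpowers_of_pow {r : G} (hr : r ∈ R) (hrs : r ^ s = 1) : r ∈ zpowers z := by
  classical
  haveI := C.cyclic
  letI : Fintype R := Fintype.ofFinite _
  set S : Finset R := Finset.univ.filter fun a : R => a ^ s = 1 with hS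
  set Z : Finset R := Finset.univ.filter fun a : R => (a : G) ∈ zpowers z with hZ
  have hsub : Z ⊆ S := fun a ha => by
    refine Finset.mem_filter.2 ⟨Finset.mem_univ _, Subtype.ext ?_⟩
    obtain ⟨k, hk⟩ := (Finset.mem_filter.1 ha).2
    rw [coe_pow, coe_one, ← hk, ← zpow_natCast, ← zpow_mul, mul_comm, zpow_mul, zpow_natCast,
      ← C.z_order, pow_orderOf_eq_one, one_zpow]
  have hZc : Z.card = s := by
    rw [← C.z_order, ← Nat.card_zpowers, ← Nat.card_congr
      (Subgroup.subgroupOfEquivOfLe (zpowers_le.2 C.z_mem : zpowers z ≤ R)).toEquiv,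
      Nat.card_eq_fintype_card, Fintype.card_subtype]
    rfl
  have h1 : S = Z := (Finset.eq_of_subset_of_card_le hsub
    ((IsCyclic.card_pow_eq_one_le C.prime.pos).trans hZc.ge)).symm
  have h2 : (⟨r, hr⟩ : R) ∈ S := Finset.mem_filter.2 ⟨Finset.mem_univ _, Subtype.ext hrs⟩
  rw [h1] at h2
  exact (Finset.mem_filter.1 h2).2

/-- Nothing in `L ⊓ D` moves `R`. -/
theorem commute_of_normalize {n : G} (hn : n ∈ L ⊓ pairStab (base H) x)
    (hnR : n ∈ normalizer (R : Set G)) {r : G} (hr : r ∈ R) : Commute n r := by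
  haveI := C.fact
  haveI := C.cyclic
  obtain ⟨g, hg⟩ := IsCyclic.exists_generator (α := R)
  have hgen : ∀ y ∈ R, y ∈ zpowers (g : G) := fun y hy => by
    obtain ⟨k, hk⟩ := hg ⟨y, hy⟩
    exact ⟨k, congrArg Subtype.val hk⟩
  suffices hng : Commute n g by
    obtain ⟨k, rfl⟩ := hgen r hr
    exact hng.zpow_right k
  obtain ⟨k, hk⟩ := hgen _ ((mem_normalizer_iff.1 hnR g).1 g.2)
  replace hk : (g : G) ^ k = n * g * n⁻¹ := hk
  -- `r ^ (k - 1)` is a commutator, so `k ≡ 1` modulo `s`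
  have hcomm : (g : G) ^ (k - 1) ∈ ⁅L ⊓ pairStab (base H) x, L ⊓ pairStab (base H) x⁆ := by
    rw [zpow_sub_one, hk, ← commutatorElement_def]
    exact commutator_mem_commutator hn (C.sylow.1 g.2)
  obtain ⟨e, he⟩ := C.sylow.isPGroup.exists_card_eq
  have hgo : orderOf (g : G) = s ^ e := by
    rw [orderOf_coe, orderOf_eq_card_of_forall_mem_zpowers hg, he]
  have hks : (s : ℤ) ∣ k - 1 := by
    by_contra hnd
    refine C.not_le fun y hy => ?_
    have hcop : IsCoprime (k - 1) ((s ^ e : ℕ) : ℤ) := by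
      rw [Nat.cast_pow]
      exact (((Nat.prime_iff_prime_int.1 C.prime).coprime_iff_not_dvd).2 hnd).symm.pow_right
    obtain ⟨a, b, hab⟩ := hcop
    have hg1 : (g : G) ∈ ⁅L ⊓ pairStab (base H) x, L ⊓ pairStab (base H) x⁆ := by
      rw [show (g : G) = ((g : G) ^ (k - 1)) ^ a by
        rw [← zpow_mul]
        conv_lhs => rw [← zpow_one (g : G), ← hab, zpow_add, mul_comm b, zpow_mul (g : G) _ b,
          zpow_natCast, ← hgo, pow_orderOf_eq_one, one_zpow, mul_one, mul_comm a]]
      exact zpow_mem hcomm a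
    exact zpowers_le.2 hg1 (hgen y hy)
  -- split off the `s`-part of `n`
  obtain ⟨i, o, ho, hio⟩ := Nat.exists_eq_pow_mul_and_not_dvd (orderOf_pos n).ne' s C.prime.ne_one
  have hcop : Nat.Coprime (s ^ i) o := ((Nat.Prime.coprime_iff_not_dvd C.prime).2 ho).pow_left i
  set n1 := n ^ o with hn1
  have hn1R : n1 ∈ R := by
    have hp : IsPGroup s (R ⊔ zpowers n1 : Subgroup G) := by
      refine C.sylow.isPGroup.to_sup_of_normal_left' ?_ ?_
      · rintro ⟨_, j, rfl⟩
        refine ⟨i, Subtype.ext ?_⟩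
        show ((n ^ o) ^ j) ^ s ^ i = 1
        rw [← zpow_natCast, ← zpow_mul, mul_comm, zpow_mul, zpow_natCast, ← pow_mul, mul_comm o,
          ← hio, pow_orderOf_eq_one, one_zpow]
      · exact zpowers_le.2 (pow_mem hnR o)
    rw [sylowIn_eq_of_le C.sylow hp (sup_le C.sylow.1 (zpowers_le.2 (pow_mem hn o))) le_sup_left]
    exact mem_sup_right (mem_zpowers n1)
  have h1 : Commute (n ^ o) g := C.commute_R hn1R g.2
  -- the other part has order prime to `s`
  have h2 : ∀ j : ℕ, n ^ j * g * (n ^ j)⁻¹ = (g : G) ^ (k ^ j) := by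
    intro j
    induction j with
    | zero => simp
    | succ j ih =>
      rw [pow_succ', show n * n ^ j * g * (n * n ^ j)⁻¹ = n * (n ^ j * g * (n ^ j)⁻¹) * n⁻¹ by group,
        ih, ← conj_zpow, ← hk, ← zpow_mul, pow_succ']
  have h3 : (orderOf (g : G) : ℤ) ∣ k ^ o - 1 := by
    rw [orderOf_dvd_iff_zpow_eq_one, zpow_sub_one, ← h2, h1.eq, mul_inv_cancel_right,
      mul_inv_cancel]
  have h4 : (orderOf (g : G) : ℤ) ∣ k - 1 := by
    rw [hgo, Nat.cast_pow] at h3 ⊢
    rw [← geom_sum_mul] at h3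
    refine IsCoprime.dvd_of_dvd_mul_left ?_ h3
    refine IsCoprime.pow_left ((Nat.prime_iff_prime_int.1 C.prime).coprime_iff_not_dvd.2 fun hd => ?_)
    refine ho (Int.natCast_dvd_natCast.1 ?_)
    have h5 : (s : ℤ) ∣ ∑ j ∈ Finset.range o, (k ^ j - 1) := Finset.dvd_sum fun j _ =>
      hks.trans (sub_one_dvd_pow_sub_one k j)
    rw [Finset.sum_sub_distrib, Finset.sum_const, Finset.card_range, nsmul_eq_mul, mul_one] at h5
    simpa using dvd_sub hd h5
  rw [orderOf_dvd_iff_zpow_eq_one, zpow_sub_one, hk, mul_inv_eq_one] at h4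
  exact mul_inv_eq_iff_eq_mul.1 h4

/-- `L ⊓ D` has a normal `s`-complement, normalized by `D`. -/
theorem exists_kernel : ∃ K : Subgroup G, K ≤ L ⊓ pairStab (base H) x ∧ ¬ s ∣ Nat.card K ∧
    (∀ g ∈ L ⊓ pairStab (base H) x, ¬ s ∣ orderOf g → g ∈ K) ∧
    pairStab (base H) x ≤ normalizer (K : Set G) ∧ L ⊓ pairStab (base H) x ≤ K ⊔ R := by
  haveI := C.fact
  obtain ⟨K, hK, hKs, hKmem, -, hKR, -⟩ := exists_complement_of_central C.sylow
    fun n hn hnR r hr => C.commute_of_normalize hn hnR hr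
  have key : ∀ d ∈ pairStab (base H) x, ∀ k ∈ K, d * k * d⁻¹ ∈ K := by
    intro d hd k hk
    refine hKmem _ ⟨?_, ?_⟩ ?_
    · exact (mem_normalizer_iff.1 (C.layer.norm (pairStab_base_le H x hd)) k).1 (hK hk).1
    · exact (pairStab (base H) x).mul_mem ((pairStab (base H) x).mul_mem hd (hK hk).2) ((pairStab (base H) x).inv_mem hd)
    · intro hdv
      rw [show d * k * d⁻¹ = MulAut.conj d k from rfl, MulEquiv.orderOf_eq] at hdv
      exact hKs (hdv.trans (Subgroup.orderOf_dvd_natCard K hk))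
  exact ⟨K, hK, hKs, hKmem, fun d hd => mem_normalizer_iff.2 fun k => ⟨key d hd k, fun hk => by
    simpa [mul_assoc] using key _ (inv_mem hd) _ hk⟩, hKR⟩

/-- Every element of `D` is an element of the complement times one normalizing `⟨z⟩`. -/
theorem exists_decomp {K : Subgroup G} (hKR : L ⊓ pairStab (base H) x ≤ K ⊔ R)
    (hKn : pairStab (base H) x ≤ normalizer (K : Set G)) (hK : K ≤ L ⊓ pairStab (base H) x)
    {d : G} (hd : d ∈ pairStab (base H) x) :
    ∃ k ∈ K, ∃ n ∈ pairStab (base H) x, n ∈ normalizer (zpowers z : Set G) ∧ d = k * n := by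
  haveI := C.fact
  have hdz : d * z * d⁻¹ ∈ L ⊓ pairStab (base H) x :=
    ⟨(mem_normalizer_iff.1 (C.layer.norm (pairStab_base_le H x hd)) z).1 C.z_memE.1,
      (pairStab (base H) x).mul_mem ((pairStab (base H) x).mul_mem hd C.z_memE.2) ((pairStab (base H) x).inv_mem hd)⟩
  have hp : IsPGroup s (zpowers (d * z * d⁻¹)) := IsPGroup.of_card (n := 1) (by
    rw [Nat.card_zpowers, pow_one, show d * z * d⁻¹ = MulAut.conj d z from rfl,
      MulEquiv.orderOf_eq, C.z_order])
  obtain ⟨e, he, hle⟩ := exists_conjBy_le hp (zpowers_le.2 hdz) C.sylow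
  obtain ⟨k, hk, r, hr, rfl⟩ := CfsgLib.Coprime.mem_sup_exists
    (fun y hy => hKn (C.sylow.1 hy).2) (hKR he)
  have hmem : r⁻¹ * (k⁻¹ * (k * r * (d * z * d⁻¹) * (k * r)⁻¹) * k) * r = d * z * d⁻¹ := by group
  have hkd : k * r * (d * z * d⁻¹) * (k * r)⁻¹ ∈ R :=
    hle ⟨d * z * d⁻¹, mem_zpowers _, rfl⟩
  have hpow : (k * r * (d * z * d⁻¹) * (k * r)⁻¹) ^ s = 1 := by
    rw [show k * r * (d * z * d⁻¹) * (k * r)⁻¹ = MulAut.conj (k * r * d) z by
      simp [MulAut.conj_apply, mul_assoc], ← map_pow, ← C.z_order, pow_orderOf_eq_one, map_one]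
  have hz : k * r * (d * z * d⁻¹) * (k * r)⁻¹ ∈ zpowers z := C.mem_zpowers_of_pow hkd hpow
  -- `k * r * d` normalizes `⟨z⟩`
  have hn : k * r * d ∈ normalizer (zpowers z : Set G) := by
    refine (CfsgLib.Coprime.conjBy_eq_self_iff).1 (eq_of_le_of_card_ge ?_ ?_)
    · rw [conjBy, MonoidHom.map_zpowers]
      refine zpowers_le.2 ?_
      simpa [mul_assoc] using hz
    · rw [CfsgLib.Coprime.card_conjBy]
  refine ⟨(r⁻¹ * k⁻¹ * r), ?_, r⁻¹ * (k * r * d), ?_, ?_, by group⟩
  · have h1 := (mem_normalizer_iff.1 (hKn (C.sylow.1 (R.inv_mem hr)).2) k⁻¹).1 (K.inv_mem hk)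
    simpa using h1
  · exact mul_mem (inv_mem (C.sylow.1 hr).2) (mul_mem (mul_mem (hK hk).2 (C.sylow.1 hr).2) hd)
  · exact mul_mem (inv_mem (centralizer_le_normalizer _
      (mem_centralizer_zpowers.2 (C.commute_R hr C.z_mem)))) hn

/-- `L ⊓ D` is transitive on the involutions at the base point, through its `s`-complement. -/
theorem exists_trans {K : Subgroup G} (hKR : L ⊓ pairStab (base H) x ≤ K ⊔ R)
    (hKn : pairStab (base H) x ≤ normalizer (K : Set G)) (hK : K ≤ L ⊓ pairStab (base H) x)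
    {v : G} (hv : orderOf v = 2) (hvb : v • base H = base H) : ∃ k ∈ K, k * t * k⁻¹ = v := by
  obtain ⟨w, hw, hwb⟩ := exists_swapper C.setting.se C.ne.symm
  obtain ⟨d, -, hdb, hdx, hd⟩ := transitive_fixing C.setting.se ⊤ (u := w) (mem_top _)
    (by rw [hwb]; exact C.ne) C.t_order (mem_top _) C.t_base hv (mem_top _) hvb
  rw [hwb] at hdx
  obtain ⟨k, hk, n, hn, hnz, rfl⟩ := C.exists_decomp hKR hKn hK
    (⟨mem_stabilizer_iff.2 hdb, mem_stabilizer_iff.2 hdx⟩ : d ∈ pairStab (base H) x)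
  refine ⟨k, hk, ?_⟩
  have h1 : Commute n t := C.commute_t (mem_stabilizer_iff.1 hn.1) hnz
  rw [← hd, show k * n * t * (k * n)⁻¹ = k * (n * t * n⁻¹) * k⁻¹ by group, h1.eq,
    mul_inv_cancel_right]

end Cyc

end CfsgLib.Bender.Full
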